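import Groth.Agent.L14.Elkik.Basic
import Groth.Agent.L14.GrApprox.FormalModification

/-!
Bounded torsion over a flat extension of a Noetherian ring, and Elkik's theorem for linear systems.
-/

set_option autoImplicit false
set_option linter.style.haveILetI false

noncomputable section

namespace Groth.L14.Elkik

universe u

variable {B₀ B : Type u} [CommRing B₀] [CommRing B] [Algebra B₀ B]

theorem mem_map_colon [Module.Flat B₀ B] (K : Ideal B₀) (hK : K.FG) (a : B₀) (x : B)
    (hx : algebraMap B₀ B a * x ∈ K.map (algebraMap B₀ B)) :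
    x ∈ Ideal.map (algebraMap B₀ B) (Submodule.comap (LinearMap.mulLeft B₀ a) K) := by
  obtain ⟨r, g, hg⟩ := Submodule.fg_iff_exists_fin_generating_family.mp hK
  rw [← hg, show Submodule.span B₀ (Set.range g) = Ideal.span (Set.range g) from rfl, Ideal.map_span, ← Set.range_comp] at hx
  obtain ⟨c, hc⟩ := (Submodule.mem_span_range_iff_exists_fun B).mp hx
  obtain ⟨s, al, y, hal, hxy⟩ := Groth.L14.GrApprox.exists_combination_of_relations
    (fun (_ : Fin 1) => Fin.cons a fun i => -g i) (Fin.cons x c) fun _ => by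
      simp only [Fin.sum_univ_succ, Fin.cons_zero, Fin.cons_succ, Algebra.smul_def, map_neg, neg_mul,
        Finset.sum_neg_distrib, ← hc, smul_eq_mul, Function.comp_apply]
      rw [← sub_eq_add_neg, sub_eq_zero]
      exact Finset.sum_congr rfl fun i _ => mul_comm _ _
  rw [show x = _ from hxy 0]
  refine Ideal.sum_mem _ fun i _ => ?_
  rw [Algebra.smul_def]
  refine Ideal.mul_mem_right _ _ (Ideal.mem_map_of_mem _ ?_)
  show a * al i 0 ∈ K
  have h := hal i 0
  simp only [Fin.sum_univ_succ, Fin.cons_zero, Fin.cons_succ, neg_mul, Finset.sum_neg_distrib] at h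
  rw [eq_neg_of_add_eq_zero_left h, neg_neg]
  exact sum_mem fun j _ => Ideal.mul_mem_right _ _ (hg.le (Submodule.subset_span ⟨j, rfl⟩))

theorem bddTors_map [IsNoetherianRing B₀] [Module.Flat B₀ B] :
    ∀ (l : List B₀) (K : Ideal B₀), BddTors (l.map (algebraMap B₀ B)) (K.map (algebraMap B₀ B))
  | [], _ => trivial
  | t :: l, K => by
    refine ⟨?_, fun m => ?_⟩
    · obtain ⟨⟨N, hN⟩, -⟩ := bddTors_of_isNoetherianRing (t :: l) K
      refine ⟨N, fun m x hx => ?_⟩
      rw [← map_pow] at hx ⊢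
      have h1 := mem_map_colon K (IsNoetherian.noetherian _) (t ^ m) x hx
      have h2 : Ideal.span {algebraMap B₀ B (t ^ N)} *
          Ideal.map (algebraMap B₀ B) (Submodule.comap (LinearMap.mulLeft B₀ (t ^ m)) K) ≤ K.map (algebraMap B₀ B) := by
        rw [← Set.image_singleton, ← Ideal.map_span, ← Ideal.map_mul]
        refine Ideal.map_mono (Ideal.span_singleton_mul_le_iff.mpr fun z hz => ?_)
        exact hN m z hz
      exact h2 (Ideal.mul_mem_mul (Ideal.mem_span_singleton_self _) h1)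
    · have := bddTors_map l (K ⊔ Ideal.span {t ^ m})
      rwa [Ideal.map_sup, Ideal.map_span, Set.image_singleton, map_pow] at this

variable {R : Type u} [CommRing R] {ι κ : Type} [Fintype ι] [Fintype κ]

theorem linearMap_apply_mem (T : (ι → R) →ₗ[R] (κ → R)) (K : Ideal R) {z : ι → R} (hz : ∀ i, z i ∈ K) (j : κ) :
    T z j ∈ K := by
  classical
  rw [pi_eq_sum_univ' z, map_sum, Finset.sum_apply]
  exact K.sum_mem fun i _ => by rw [map_smul, Pi.smul_apply, smul_eq_mul]; exact K.mul_mem_right _ (hz i)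

/-- A linear system which splits away from `V(I)` and is approximately solved has a nearby exact solution. -/
theorem exists_linear_solution (l : List R) (c : ℕ) :
    ∀ (K : Ideal R), BddTors l K → ∀ k : ℕ, ∃ k₀ : ℕ, ∀ (T : (ι → R) →ₗ[R] (κ → R)) (Δ : κ → R),
      (∀ t ∈ l, ∃ G : (κ → R) →ₗ[R] (ι → R), ∀ z, T (G (T z)) = t ^ c • T z) →
      (∀ t ∈ l, ∃ w, ∀ j, t ^ c * Δ j - T w j ∈ K) →
      (∀ j, Δ j ∈ Ideal.span {b | b ∈ l} ^ k₀ ⊔ K) →
      ∃ z : ι → R, (∀ i, z i ∈ Ideal.span {b | b ∈ l} ^ k) ∧ ∀ j, T z j - Δ j ∈ K := by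
  induction l with
  | nil =>
    refine fun K _ k => ⟨1, fun T Δ _ _ hΔ => ⟨0, fun i => zero_mem _, fun j => ?_⟩⟩
    rw [map_zero, Pi.zero_apply, zero_sub]
    exact K.neg_mem (by simpa using hΔ j)
  | cons t l ih =>
    intro K hK k
    obtain ⟨⟨N, hN⟩, hl⟩ := hK
    let M := k + c + c + N
    obtain ⟨k₀, hk₀⟩ := ih (K ⊔ Ideal.span {t ^ M}) (hl M) k
    refine ⟨M + k₀, fun T Δ hG hw hΔ => ?_⟩
    have hI : Ideal.span {b | b ∈ t :: l} = Ideal.span {t} ⊔ Ideal.span {b | b ∈ l} := by
      rw [← Ideal.span_union]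
      congr 1
      ext b
      simp
    have hpow : Ideal.span {b | b ∈ t :: l} ^ (M + k₀) ⊔ K ≤
        Ideal.span {b | b ∈ l} ^ k₀ ⊔ (K ⊔ Ideal.span {t ^ M}) := by
      refine sup_le ?_ (le_sup_left.trans le_sup_right)
      rw [hI]
      refine Ideal.sup_pow_add_le_pow_sup_pow.trans (sup_le ?_ le_sup_left)
      rw [Ideal.span_singleton_pow]
      exact le_sup_right.trans le_sup_right
    obtain ⟨z, hz, hzr⟩ := hk₀ T Δ (fun a ha => hG a (List.mem_cons_of_mem _ ha))
      (fun a ha => (hw a (List.mem_cons_of_mem _ ha)).imp fun w hw j => Submodule.mem_sup_left (hw j))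
      (fun j => hpow (hΔ j))
    have hr : ∀ j, ∃ r, T z j - Δ j - t ^ M * r ∈ K := fun j => by
      obtain ⟨p, hp, q, hq, hpq⟩ := Submodule.mem_sup.mp (hzr j)
      obtain ⟨r, rfl⟩ := Ideal.mem_span_singleton'.mp hq
      exact ⟨r, by rw [← hpq, mul_comm, add_sub_cancel_right]; exact hp⟩
    choose r hr using hr
    obtain ⟨G, hG⟩ := hG t List.mem_cons_self
    obtain ⟨w, hw⟩ := hw t List.mem_cons_self
    let w' := t ^ c • z - w
    have h1 : ∀ j, T w' j - t ^ c * t ^ M * r j ∈ K := fun j => by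
      have := K.add_mem (K.mul_mem_left (t ^ c) (hr j)) (hw j)
      convert this using 1
      simp only [w', map_sub, map_smul, Pi.sub_apply, Pi.smul_apply, smul_eq_mul]
      ring
    have h2 : ∀ j, t ^ N * (T (G r) j - t ^ c * r j) ∈ K := fun j => by
      refine hN (c + M) _ ?_
      have e : (t ^ c * t ^ M) • T (G r) - T (G (T w')) = -T (G (T w' - (t ^ c * t ^ M) • r)) := by
        generalize T w' = v
        rw [map_sub, map_sub, map_smul, map_smul]; abel
      have h3 := congrFun e j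
      have h4 := linearMap_apply_mem (T ∘ₗ G) K (z := T w' - (t ^ c * t ^ M) • r) h1 j
      rw [hG] at h3
      simp only [Pi.sub_apply, Pi.smul_apply, Pi.neg_apply, smul_eq_mul, LinearMap.comp_apply] at h3 h4
      convert K.add_mem (K.neg_mem h4) (K.mul_mem_left (t ^ c) (h1 j)) using 1
      rw [pow_add]
      linear_combination h3
    refine ⟨z - t ^ (k + c + N) • G r, fun i => ?_, fun j => ?_⟩
    · rw [Pi.sub_apply, Pi.smul_apply, smul_eq_mul]
      refine sub_mem (Ideal.pow_right_mono (by rw [hI]; exact le_sup_right) k (hz i)) ?_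
      have ht : t ∈ Ideal.span {b | b ∈ t :: l} := Ideal.subset_span List.mem_cons_self
      exact Ideal.mul_mem_right _ _ (Ideal.pow_le_pow_right (show k ≤ k + c + N by omega) (Ideal.pow_mem_pow ht _))
    · have h5 := K.sub_mem (hr j) (K.mul_mem_left (t ^ (k + c)) (h2 j))
      convert h5 using 1
      simp only [map_sub, map_smul, Pi.sub_apply, Pi.smul_apply, smul_eq_mul, M, pow_add]
      ring

end Groth.L14.Elkik
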