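import Mathlib.LinearAlgebra.Matrix.ToLin
import Mathlib.RingTheory.LocalProperties.Projective
import Mathlib.Algebra.Module.FinitePresentation
import Mathlib.RingTheory.LocalRing.Module
import Mathlib.RingTheory.Flat.Basic
import Mathlib.LinearAlgebra.TensorProduct.Tower

/-!
Cokernels of matrices with generalised inner inverses.
-/

set_option autoImplicit false
set_option linter.style.haveILetI false

noncomputable section

open Matrix

namespace Groth.L14.Elkik

universe u

variable {R : Type u} [CommRing R] {a b : ℕ} (Φ : Matrix (Fin b) (Fin a) R)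

theorem exists_inner_inverse_of_free [IsNoetherianRing R] {M : Type u} [AddCommGroup M] [Module R M]
    (π : (Fin b → R) →ₗ[R] M) (hπ : Function.Surjective π) (hker : LinearMap.ker π = LinearMap.range Φ.mulVecLin)
    (s : R) (hfree : ∀ (p : Ideal R) [p.IsPrime], s ∉ p → Module.Free (Localization.AtPrime p) (LocalizedModule p.primeCompl M)) :
    ∃ (e : ℕ) (H : Matrix (Fin a) (Fin b) R), Φ * H * Φ = s ^ e • Φ := by
  classical
  haveI : Module.Finite R M := Module.Finite.of_surjective π hπ
  haveI : Module.FinitePresentation R M := Module.finitePresentation_of_finite R M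
  let 𝔄 : Ideal R :=
    { carrier := {u | ∃ H : Matrix (Fin a) (Fin b) R, Φ * H * Φ = u • Φ}
      add_mem' := fun {x y} ⟨H, hH⟩ ⟨H', hH'⟩ => ⟨H + H', by rw [Matrix.mul_add, Matrix.add_mul, hH, hH', add_smul]⟩
      zero_mem' := ⟨0, by simp⟩
      smul_mem' := fun r {x} ⟨H, hH⟩ => ⟨r • H, by rw [Matrix.mul_smul, Matrix.smul_mul, hH, smul_smul, smul_eq_mul]⟩ }
  suffices s ∈ 𝔄.radical from this.imp fun e he => he
  rw [Ideal.radical_eq_sInf, Submodule.mem_sInf]
  rintro (p : Ideal R) ⟨hle, hp⟩
  haveI := hp
  by_contra hs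
  haveI := hfree p hs
  let Rp := Localization.AtPrime p
  let πp := IsLocalizedModule.mapExtendScalars p.primeCompl (LocalizedModule.mkLinearMap p.primeCompl (Fin b → R))
    (LocalizedModule.mkLinearMap p.primeCompl M) Rp π
  have hπp : Function.Surjective πp := IsLocalizedModule.map_surjective p.primeCompl
    (LocalizedModule.mkLinearMap p.primeCompl (Fin b → R)) (LocalizedModule.mkLinearMap p.primeCompl M) π hπ
  obtain ⟨σ, hσ⟩ := Module.projective_lifting_property πp LinearMap.id hπp
  obtain ⟨h, u, hu⟩ := Module.FinitePresentation.exists_lift_of_isLocalizedModule p.primeCompl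
    (LocalizedModule.mkLinearMap p.primeCompl (Fin b → R))
    ((σ.restrictScalars R) ∘ₗ LocalizedModule.mkLinearMap p.primeCompl M)
  have h1 : ∀ m, LocalizedModule.mkLinearMap p.primeCompl M (π (h m) - (u : R) • m) = 0 := fun m => by
    have e1 : LocalizedModule.mkLinearMap p.primeCompl (Fin b → R) (h m) = (u : R) • σ (LocalizedModule.mkLinearMap p.primeCompl M m) :=
      LinearMap.congr_fun hu m
    rw [map_sub, map_smul, ← IsLocalizedModule.map_apply p.primeCompl (LocalizedModule.mkLinearMap p.primeCompl (Fin b → R))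
      (LocalizedModule.mkLinearMap p.primeCompl M) π (h m), e1, map_smul]
    have e2 := LinearMap.congr_fun hσ (LocalizedModule.mkLinearMap p.primeCompl M m)
    rw [LinearMap.comp_apply, LinearMap.id_apply] at e2
    rw [show IsLocalizedModule.map p.primeCompl (LocalizedModule.mkLinearMap p.primeCompl (Fin b → R))
      (LocalizedModule.mkLinearMap p.primeCompl M) π (σ (LocalizedModule.mkLinearMap p.primeCompl M m)) =
      LocalizedModule.mkLinearMap p.primeCompl M m from e2, sub_self]
  choose w hw using fun i : Fin b => IsLocalizedModule.exists_of_eq (S := p.primeCompl)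
    (f := LocalizedModule.mkLinearMap p.primeCompl M) ((h1 (π (Pi.single i 1))).trans (map_zero _).symm)
  let W : p.primeCompl := ∏ i, w i
  let v : R := (W : R) * u
  have hall : ∀ m, π ((W : R) • h m) = v • m := fun m => by
    obtain ⟨x, rfl⟩ := hπ m
    suffices ((W : R) • (π ∘ₗ h ∘ₗ π) - v • π) = 0 by
      have := LinearMap.congr_fun this x
      rw [LinearMap.sub_apply, LinearMap.smul_apply, LinearMap.smul_apply, LinearMap.zero_apply, sub_eq_zero] at this
      rw [map_smul]
      exact this
    refine LinearMap.pi_ext' fun i => LinearMap.ext_ring ?_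
    have h2 := hw i
    rw [smul_zero, Submonoid.smul_def] at h2
    simp only [LinearMap.comp_apply, LinearMap.sub_apply, LinearMap.smul_apply, LinearMap.coe_single, LinearMap.zero_apply]
    rw [show v • π (Pi.single i 1) = (W : R) • (u : R) • π (Pi.single i 1) from mul_smul _ _ _, ← smul_sub,
      show (W : R) = (∏ j ∈ Finset.univ.erase i, (w j : R)) * w i by
        rw [Submonoid.coe_finsetProd, Finset.prod_erase_mul _ _ (Finset.mem_univ i)],
      mul_smul, h2, smul_zero]
  have hmem : ∀ i, ∃ c : Fin a → R, Φ.mulVec c = v • Pi.single i 1 - (W : R) • h (π (Pi.single i 1)) := fun i => by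
    have : v • Pi.single i (1 : R) - (W : R) • h (π (Pi.single i 1)) ∈ LinearMap.ker π := by
      rw [LinearMap.mem_ker, map_sub, hall, map_smul, sub_self]
    rw [hker] at this
    exact this
  choose c hc using hmem
  let H : Matrix (Fin a) (Fin b) R := Matrix.of fun j i => c i j
  have hH : ∀ x, Φ.mulVec (H.mulVec x) = v • x - (W : R) • h (π x) := fun x => by
    have : Φ.mulVecLin ∘ₗ H.mulVecLin = v • LinearMap.id - (W : R) • (h ∘ₗ π) := by
      refine LinearMap.pi_ext' fun i => LinearMap.ext_ring ?_
      simp only [LinearMap.comp_apply, LinearMap.sub_apply, LinearMap.smul_apply, LinearMap.coe_single, LinearMap.id_apply,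
        Matrix.mulVecLin_apply, Matrix.mulVec_single_one]
      exact hc i
    exact LinearMap.congr_fun this x
  refine p.primeCompl.mul_mem W.2 u.2 (hle (show v ∈ 𝔄 from ⟨H, Matrix.ext_of_mulVec_single fun i => ?_⟩))
  rw [← Matrix.mulVec_mulVec, ← Matrix.mulVec_mulVec, hH]
  have h0 : π (Φ.mulVec (Pi.single i 1)) = 0 := by
    rw [← LinearMap.mem_ker, hker]
    exact ⟨_, rfl⟩
  rw [h0, map_zero, smul_zero, sub_zero, Matrix.smul_mulVec]

theorem free_of_inner_inverse (H : Matrix (Fin a) (Fin b) R) (s : R) (h : Φ * H * Φ = s • Φ) (q : Ideal R) [q.IsPrime]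
    (hs : s ∉ q) :
    Module.Free (Localization.AtPrime q) (LocalizedModule q.primeCompl ((Fin b → R) ⧸ LinearMap.range Φ.mulVecLin)) := by
  classical
  let M := (Fin b → R) ⧸ LinearMap.range Φ.mulVecLin
  let π : (Fin b → R) →ₗ[R] M := Submodule.mkQ _
  haveI : Module.FinitePresentation R M := Module.finitePresentation_of_surjective π (Submodule.mkQ_surjective _) (by
    rw [Submodule.ker_mkQ, ← Submodule.map_top]
    exact Module.Finite.fg_top.map Φ.mulVecLin)
  let σ : M →ₗ[R] (Fin b → R) := Submodule.liftQ _ (s • LinearMap.id - (Φ * H).mulVecLin) (by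
    rintro _ ⟨c, rfl⟩
    simp only [LinearMap.mem_ker, LinearMap.sub_apply, LinearMap.smul_apply, LinearMap.id_apply, Matrix.mulVecLin_apply,
      Matrix.mulVec_mulVec, h, Matrix.smul_mulVec, sub_self])
  have hσ : π ∘ₗ σ = s • LinearMap.id := Submodule.linearMap_qext _ (LinearMap.ext fun x => by
    show π (s • x - (Φ * H).mulVec x) = s • π x
    rw [map_sub, map_smul, sub_eq_self, ← Matrix.mulVec_mulVec]
    exact (Submodule.Quotient.mk_eq_zero _).mpr ⟨_, rfl⟩)
  let Rq := Localization.AtPrime q
  let gF := LocalizedModule.mkLinearMap q.primeCompl (Fin b → R)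
  let gM := LocalizedModule.mkLinearMap q.primeCompl M
  let πq := IsLocalizedModule.mapExtendScalars q.primeCompl gF gM Rq π
  let σq := IsLocalizedModule.mapExtendScalars q.primeCompl gM gF Rq σ
  have hu : IsUnit (algebraMap R Rq s) := IsLocalization.map_units Rq (⟨s, hs⟩ : q.primeCompl)
  have hcomp : ∀ x, πq (σq x) = algebraMap R Rq s • x := fun x => by
    have e : IsLocalizedModule.map q.primeCompl gF gM π ∘ₗ IsLocalizedModule.map q.primeCompl gM gF σ =
        s • LinearMap.id := by
      refine IsLocalizedModule.linearMap_ext q.primeCompl gM gM (LinearMap.ext fun m => ?_)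
      simp only [LinearMap.comp_apply, LinearMap.smul_apply, LinearMap.id_apply, IsLocalizedModule.map_apply]
      rw [← LinearMap.comp_apply π σ, hσ, LinearMap.smul_apply, LinearMap.id_apply, map_smul]
    rw [IsScalarTower.algebraMap_smul]
    exact LinearMap.congr_fun e x
  haveI : Module.Projective Rq (LocalizedModule q.primeCompl (Fin b → R)) :=
    Module.projective_of_isLocalizedModule q.primeCompl gF
  haveI : Module.Projective Rq (LocalizedModule q.primeCompl M) :=
    Module.Projective.of_split ((↑hu.unit⁻¹ : Rq) • σq) πq (LinearMap.ext fun x => by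
      show πq ((↑hu.unit⁻¹ : Rq) • σq x) = x
      rw [map_smul, hcomp, smul_smul, hu.val_inv_mul, one_smul])
  haveI : Module.FinitePresentation Rq (LocalizedModule q.primeCompl M) :=
    Module.finitePresentation_of_projective _ _
  exact Module.free_of_flat_of_isLocalRing

end Groth.L14.Elkik
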