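import Groth.Agent.L14.Elkik.Smooth
import Mathlib.LinearAlgebra.Matrix.ToLin
import Mathlib.RingTheory.Smooth.Basic

/-!
The algebra of matrices with generalised inner inverses.
-/

set_option autoImplicit false
set_option linter.style.haveILetI false

noncomputable section

open MvPolynomial Matrix

namespace Groth.L14.Elkik

universe u

section

variable {C D : Type u} [CommRing C] [CommRing D] (q : C →+* D)

theorem matrix_mul_eq_zero {l m n : Type} [Fintype m] (hsq : RingHom.ker q ^ 2 = ⊥) {X : Matrix l m C}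
    {Y : Matrix m n C} (hX : X.map q = 0) (hY : Y.map q = 0) : X * Y = 0 := by
  ext i j
  rw [Matrix.mul_apply, Matrix.zero_apply]
  refine Finset.sum_eq_zero fun k _ => ?_
  rw [← Ideal.mem_bot (R := C), ← hsq, pow_two]
  exact Ideal.mul_mem_mul (congrFun (congrFun hX i) k) (congrFun (congrFun hY k) j)

set_option maxHeartbeats 1000000 in
/-- Matrices with generalised inner inverses lift along nilpotent extensions when one scalar is invertible. -/
theorem exists_regular_lift (hq : Function.Surjective q) (hsq : RingHom.ker q ^ 2 = ⊥) {m n : Type} [Fintype m]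
    [Fintype n] [DecidableEq m] [DecidableEq n] {ρ : Type} (ρ₀ : ρ) (s : ρ → C) (hs : IsUnit (s ρ₀))
    (Φ : Matrix n m D) (H : ρ → Matrix m n D) (h : ∀ r, Φ * H r * Φ = q (s r) • Φ) :
    ∃ (Φ' : Matrix n m C) (H' : ρ → Matrix m n C), Φ'.map q = Φ ∧ (∀ r, (H' r).map q = H r) ∧
      ∀ r, Φ' * H' r * Φ' = s r • Φ' := by
  obtain ⟨u, hu⟩ := hs
  let v : C := ((u⁻¹ : Cˣ) : C)
  have hv : s ρ₀ * v = 1 := by rw [← hu]; exact u.mul_inv
  have hqv : q (s ρ₀) * q v = 1 := by rw [← map_mul, hv, map_one]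
  obtain ⟨Φt, hΦt⟩ : ∃ Φt : Matrix n m C, Φt.map q = Φ := ⟨Φ.map (Function.surjInv hq), by
    ext i j; simp [Function.surjInv_eq hq]⟩
  have hlift : ∀ r, ∃ Ht : Matrix m n C, Ht.map q = H r := fun r => ⟨(H r).map (Function.surjInv hq), by
    ext i j; simp [Function.surjInv_eq hq]⟩
  choose Ht hHt using hlift
  have hmap : ∀ {l k p : Type} [Fintype k] (X : Matrix l k C) (Y : Matrix k p C),
      (X * Y).map q = X.map q * Y.map q := fun X Y => Matrix.map_mul
  have hsmul : ∀ {l k : Type} (a : C) (X : Matrix l k C), (a • X).map q = q a • X.map q := fun a X => by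
    ext i j; simp
  let X : Matrix n n C := v • (Φt * Ht ρ₀)
  have hXq : X.map q * X.map q = X.map q := by
    simp only [X, hsmul, hmap, hΦt, hHt, Matrix.smul_mul, Matrix.mul_smul, smul_smul, ← Matrix.mul_assoc, h,
      Matrix.smul_mul, smul_smul]
    rw [show q v * (q v * q (s ρ₀)) = q v by linear_combination (q v) * hqv]
  let d := X * X - X
  have hdq : d.map q = 0 := by
    rw [Matrix.map_sub _ (map_sub q), hmap, hXq, sub_self]
  have hdd : d * d = 0 := matrix_mul_eq_zero q hsq hdq hdq
  let E := X + d * (1 - 2 • X)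
  have hEE : E * E = E := by
    have hc : d * X = X * d := by simp only [d, mul_sub, sub_mul, mul_assoc]
    have h1 : X * X = X + d := by simp only [d, add_sub_cancel]
    have h2 : X * (d * X) = d * X + d * d := by rw [hc, ← mul_assoc, h1, add_mul, ← hc]
    simp only [E, two_nsmul, mul_sub, mul_add, sub_mul, add_mul, mul_one]
    simp only [mul_assoc, h1, h2, hdd, mul_add, mul_zero, ← mul_assoc d d, zero_mul, add_zero, zero_add,
      ← mul_assoc X d, ← hc]
    abel
  have hEq : E.map q = X.map q := by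
    rw [Matrix.map_add _ (map_add q), hmap, hdq, zero_mul, add_zero]
  let W := 1 - E + E * X * E
  let ν := W - 1
  have hνq : ν.map q = 0 := by
    simp only [ν, W, Matrix.map_sub _ (map_sub q), Matrix.map_add _ (map_add q), hmap, hEq, hXq,
      Matrix.map_one _ (map_zero q) (map_one q)]
    abel
  have hinv : W * (1 - ν) = 1 := by
    rw [show W = 1 + ν from (add_sub_cancel _ _).symm, mul_sub, mul_one, add_mul, one_mul,
      matrix_mul_eq_zero q hsq hνq hνq, add_zero, add_sub_cancel_right]
  have hEW : E * W = E * X * E := by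
    simp only [W, mul_add, mul_sub, mul_one, ← mul_assoc, hEE, sub_self, zero_add]
  let Φ' := E * Φt
  let H0 := Ht ρ₀ * E * (1 - ν)
  have hPH : Φ' * H0 = s ρ₀ • E := by
    have h1 : Φ' * H0 = E * (Φt * Ht ρ₀) * E * (1 - ν) := by simp only [Φ', H0, Matrix.mul_assoc]
    have h2 : Φt * Ht ρ₀ = s ρ₀ • X := by rw [smul_smul, hv, one_smul]
    rw [h1, h2, Matrix.mul_smul, Matrix.smul_mul, Matrix.smul_mul, ← hEW, mul_assoc, hinv, mul_one]
  have hPHP : Φ' * H0 * Φ' = s ρ₀ • Φ' := by
    rw [hPH, Matrix.smul_mul, ← Matrix.mul_assoc, hEE]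
  refine ⟨Φ', fun r => (s r * v) • H0 + (Ht r - (v * v) • (H0 * Φ' * Ht r * Φ' * H0)), ?_, fun r => ?_, fun r => ?_⟩
  · simp only [Φ', hmap, hEq, X, hsmul, hΦt, hHt, Matrix.smul_mul, h, smul_smul]
    rw [mul_comm, hqv, one_smul]
  · have hP : Φ'.map q = Φ := by
      simp only [Φ', hmap, hEq, X, hsmul, hΦt, hHt, Matrix.smul_mul, h, smul_smul]
      rw [mul_comm, hqv, one_smul]
    have hH : H0.map q = q v • (H ρ₀ * Φ * H ρ₀) := by
      simp only [H0, hmap, hEq, X, hsmul, hΦt, hHt, Matrix.map_sub _ (map_sub q), hνq, sub_zero,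
        Matrix.map_one _ (map_zero q) (map_one q), mul_one, Matrix.mul_one, Matrix.mul_smul, Matrix.mul_assoc]
    have hHPH : H0.map q * Φ * H r * Φ * H0.map q = (q v * q v * q (s r) * q (s ρ₀) * q (s ρ₀)) • (H ρ₀ * Φ * H ρ₀) := by
      have e1 : ∀ Y : Matrix m n D, Φ * (H r * (Φ * Y)) = q (s r) • (Φ * Y) := fun Y => by
        rw [← Matrix.mul_assoc, ← Matrix.mul_assoc, h, Matrix.smul_mul]
      have e2 : ∀ Y : Matrix m n D, Φ * (H ρ₀ * (Φ * Y)) = q (s ρ₀) • (Φ * Y) := fun Y => by
        rw [← Matrix.mul_assoc, ← Matrix.mul_assoc, h, Matrix.smul_mul]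
      simp only [hH, Matrix.smul_mul, Matrix.mul_smul, smul_smul, Matrix.mul_assoc, e1, e2]
      congr 1
      ring
    simp only [Matrix.map_add _ (map_add q), Matrix.map_sub _ (map_sub q), hsmul, hmap, hP, hHt, hHPH, map_mul,
      smul_smul]
    rw [hH, smul_smul, show q v * q v * (q v * q v * q (s r) * q (s ρ₀) * q (s ρ₀)) = q v * q v * q (s r) by
        linear_combination (q v * q v * q (s r) * (q (s ρ₀) * q v + 1)) * hqv,
      show q (s r) * q v * q v = q v * q v * q (s r) by ring]
    generalize H ρ₀ * Φ * H ρ₀ = Z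
    abel
  · rw [Matrix.mul_add, Matrix.add_mul, Matrix.mul_smul, Matrix.smul_mul, hPHP, smul_smul, mul_assoc (s r) v,
      show v * s ρ₀ = 1 by rw [mul_comm, hv], mul_one, Matrix.mul_sub, Matrix.sub_mul, Matrix.mul_smul, Matrix.smul_mul,
      show Φ' * (H0 * Φ' * Ht r * Φ' * H0) * Φ' = (Φ' * H0 * Φ') * Ht r * (Φ' * H0 * Φ') by simp only [Matrix.mul_assoc],
      hPHP, Matrix.smul_mul, Matrix.mul_smul, Matrix.smul_mul, smul_smul, smul_smul,
      show v * v * s ρ₀ * s ρ₀ = 1 by linear_combination (s ρ₀ * v + 1) * hv, one_smul, sub_self, add_zero]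

end

variable {R : Type u} [CommRing R] {a b L : ℕ} (s : Fin L → R)

/-- The variables: a matrix and its generalised inverses. -/
def varEquiv (a b L : ℕ) : (Fin b × Fin a) ⊕ (Fin L × Fin a × Fin b) ≃ Fin (b * a + L * (a * b)) :=
  ((finProdFinEquiv).sumCongr ((Equiv.prodCongr (Equiv.refl _) finProdFinEquiv).trans finProdFinEquiv)).trans
    finSumFinEquiv

/-- The universal matrix. -/
def univΦ (a b L : ℕ) : Matrix (Fin b) (Fin a) (MvPolynomial (Fin (b * a + L * (a * b))) R) :=
  Matrix.of fun i j => X (varEquiv a b L (.inl (i, j)))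

/-- The universal generalised inverses. -/
def univH (a b : ℕ) (l : Fin L) : Matrix (Fin a) (Fin b) (MvPolynomial (Fin (b * a + L * (a * b))) R) :=
  Matrix.of fun i j => X (varEquiv a b L (.inr (l, i, j)))

/-- The equation of the `l`-th generalised inverse. -/
def regEq (a b : ℕ) (l : Fin L) : Matrix (Fin b) (Fin a) (MvPolynomial (Fin (b * a + L * (a * b))) R) :=
  univΦ (R := R) a b L * univH (R := R) a b l * univΦ (R := R) a b L -
    (MvPolynomial.C (s l) : MvPolynomial (Fin (b * a + L * (a * b))) R) • univΦ (R := R) a b L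

/-- The equations of matrices with generalised inverses. -/
def regIdeal (a b : ℕ) : Ideal (MvPolynomial (Fin (b * a + L * (a * b))) R) :=
  Ideal.span (Set.range fun p : Fin L × Fin b × Fin a =>
    regEq s a b p.1 p.2.1 p.2.2)

/-- The values of the variables at a matrix and generalised inverses. -/
def regPoint {C : Type u} (Φ : Matrix (Fin b) (Fin a) C) (H : Fin L → Matrix (Fin a) (Fin b) C) :
    Fin (b * a + L * (a * b)) → C :=
  fun i => Sum.elim (fun p => Φ p.1 p.2) (fun p => H p.1 p.2.1 p.2.2) ((varEquiv a b L).symm i)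

theorem aeval_regPoint {C : Type u} [CommRing C] [Algebra R C] (Φ : Matrix (Fin b) (Fin a) C)
    (H : Fin L → Matrix (Fin a) (Fin b) C) (l : Fin L) (i : Fin b) (j : Fin a) :
    aeval (regPoint Φ H) (regEq s a b l i j) =
      (Φ * H l * Φ - algebraMap R C (s l) • Φ) i j := by
  simp [regEq, univΦ, univH, regPoint, Matrix.mul_apply, Algebra.smul_def]

theorem regPoint_surjective {C : Type u} [CommRing C] [Algebra R C] (π : MvPolynomial (Fin (b * a + L * (a * b))) R →ₐ[R] C) :
    π = aeval (regPoint ((univΦ a b L).map π) fun l => (univH a b l).map π) := by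
  refine MvPolynomial.algHom_ext fun i => ?_
  obtain ⟨p, rfl⟩ := (varEquiv a b L).surjective i
  rw [aeval_X]
  rcases p with p | p <;> simp [regPoint, univΦ, univH]

set_option maxHeartbeats 1000000 in
theorem isSplitAt_regIdeal (a b : ℕ) (t : R) (l₀ : Fin L) (e : ℕ) (he : s l₀ = t ^ e) : IsSplitAt (regIdeal s a b) t := by
  classical
  let n := b * a + L * (a * b)
  let P := MvPolynomial (Fin n) R
  let U := P ⧸ regIdeal s a b
  let A := Localization.Away (algebraMap R U t)
  haveI : Algebra.FinitePresentation R U :=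
    Algebra.FinitePresentation.quotient (Submodule.fg_span (Set.finite_range _))
  haveI : Algebra.FinitePresentation U A := IsLocalization.Away.finitePresentation (algebraMap R U t)
  haveI : Algebra.FinitePresentation R A := Algebra.FinitePresentation.trans R U A
  haveI : Algebra.FormallySmooth R A := by
    refine Algebra.FormallySmooth.of_comp_surjective fun C _ _ K hK f => ?_
    let q := Ideal.Quotient.mk K
    let π : P →ₐ[R] C ⧸ K := f.comp ((IsScalarTower.toAlgHom R U A).comp (Ideal.Quotient.mkₐ R _))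
    have hπ : ∀ x, x ∈ regIdeal s a b → π x = 0 := fun x hx => by
      show f (algebraMap U A (Ideal.Quotient.mk _ x)) = 0
      rw [Ideal.Quotient.eq_zero_iff_mem.mpr hx, map_zero, map_zero]
    have ht : IsUnit (algebraMap R C t) := by
      have h1 : IsUnit (Ideal.Quotient.mk K (algebraMap R C t)) := by
        have h2 := (IsLocalization.Away.algebraMap_isUnit (S := A) (algebraMap R U t)).map f
        rw [← IsScalarTower.algebraMap_apply, f.commutes] at h2
        exact h2
      exact (IsNilpotent.isUnit_quotient_mk_iff (I := K) ⟨2, hK⟩).mp h1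
    have hpt : ∀ l, (univΦ a b L).map π * (univH a b l).map π * (univΦ a b L).map π = q (algebraMap R C (s l)) • (univΦ a b L).map π := fun l => by
      ext i j
      rw [← sub_eq_zero]
      have h1 := hπ _ (Ideal.subset_span ⟨(l, i, j), rfl⟩)
      rw [regPoint_surjective π, aeval_regPoint] at h1
      exact h1
    obtain ⟨Φ', H', hΦ, hH, hreg⟩ := exists_regular_lift q Ideal.Quotient.mk_surjective (by rw [Ideal.mk_ker]; exact hK)
      l₀ (fun l => algebraMap R C (s l)) (by rw [he, map_pow]; exact ht.pow e) ((univΦ a b L).map π) (fun l => (univH a b l).map π) hpt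
    let σ : P →ₐ[R] C := aeval (regPoint Φ' H')
    let σU : U →ₐ[R] C := Ideal.Quotient.liftₐ _ σ (by
      show regIdeal s a b ≤ RingHom.ker σ
      refine Ideal.span_le.mpr ?_
      rintro _ ⟨⟨l, i, j⟩, rfl⟩
      show σ _ = 0
      rw [aeval_regPoint, hreg, sub_self, Matrix.zero_apply])
    have hu : IsUnit (σU (algebraMap R U t)) := by rw [σU.commutes]; exact ht
    refine ⟨IsLocalization.Away.liftAlgHom (algebraMap R U t) (f := σU) hu,
      IsLocalization.algHom_ext (Submonoid.powers (algebraMap R U t)) (Ideal.Quotient.algHom_ext _ ?_)⟩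
    refine MvPolynomial.algHom_ext fun i => ?_
    show Ideal.Quotient.mk K (IsLocalization.Away.lift (algebraMap R U t) (g := σU.toRingHom) hu (algebraMap U A (Ideal.Quotient.mk _ (X i)))) = π (X i)
    rw [IsLocalization.Away.lift_eq]
    show Ideal.Quotient.mk K (σ (X i)) = _
    obtain ⟨p, rfl⟩ := (varEquiv a b L).surjective i
    rw [aeval_X]
    rcases p with ⟨p, p'⟩ | ⟨l, p, p'⟩
    · simpa [regPoint, q, univΦ] using congrFun (congrFun hΦ p) p'
    · simpa [regPoint, q, univH] using congrFun (congrFun (hH l) p) p'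
  rw [show regIdeal s a b = RingHom.ker (Ideal.Quotient.mkₐ R (regIdeal s a b)) from
    (Ideal.Quotient.mkₐ_ker R _).symm]
  exact isSplitAt_of_formallySmooth _ (Ideal.Quotient.mkₐ_surjective R _) t A

/-- Approximate matrices with generalised inverses are close to exact ones. -/
theorem exists_regular_approx (I : Ideal R) [HenselianRing R I] (l : List R) (hI : Ideal.span {x | x ∈ l} = I)
    (hb : BddTors l ⊥) (e k : ℕ) :
    ∃ k₀ : ℕ, ∀ (Φ₁ : Matrix (Fin b) (Fin a) R) (H₁ : Fin l.length → Matrix (Fin a) (Fin b) R),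
      (∀ m i j, (Φ₁ * H₁ m * Φ₁ - (l.get m) ^ e • Φ₁) i j ∈ I ^ k₀) →
      ∃ (Φ : Matrix (Fin b) (Fin a) R) (H : Fin l.length → Matrix (Fin a) (Fin b) R),
        (∀ i j, (Φ - Φ₁) i j ∈ I ^ k) ∧ ∀ m, Φ * H m * Φ = (l.get m) ^ e • Φ := by
  obtain ⟨k₀, hk₀⟩ := exists_root_of_approx_of_bddTors I (regIdeal (fun m => (l.get m) ^ e) a b) l hI hb
    (fun t ht => by
      obtain ⟨m, rfl⟩ := List.get_of_mem ht
      exact isSplitAt_regIdeal _ a b _ m e rfl) k
  refine ⟨k₀, fun Φ₁ H₁ h => ?_⟩
  obtain ⟨x, hx, hroot⟩ := hk₀ (regPoint Φ₁ H₁) fun g hg => by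
    induction hg using Submodule.span_induction with
    | mem y hy =>
      obtain ⟨⟨m, i, j⟩, rfl⟩ := hy
      rw [← Groth.L05.aeval_apply_eq_eval, aeval_regPoint]
      exact h m i j
    | zero => simp
    | add p q _ _ hp hq => rw [map_add]; exact Ideal.add_mem _ hp hq
    | smul p q _ hq => rw [smul_eq_mul, map_mul]; exact Ideal.mul_mem_left _ _ hq
  let Φ : Matrix (Fin b) (Fin a) R := Matrix.of fun i j => x (varEquiv a b _ (.inl (i, j)))
  let H : Fin l.length → Matrix (Fin a) (Fin b) R := fun m => Matrix.of fun i j => x (varEquiv a b _ (.inr (m, i, j)))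
  have hxe : regPoint Φ H = x := funext fun i => by
    obtain ⟨p, rfl⟩ := (varEquiv a b _).surjective i
    rcases p with p | p <;> simp [regPoint, Φ, H]
  refine ⟨Φ, H, fun i j => ?_, fun m => ?_⟩
  · simpa [Φ, regPoint] using hx (varEquiv a b _ (.inl (i, j)))
  · ext i j
    rw [← sub_eq_zero]
    have h1 := hroot _ (Ideal.subset_span ⟨(m, i, j), rfl⟩)
    rw [← hxe, ← Groth.L05.aeval_apply_eq_eval, aeval_regPoint] at h1
    exact h1

end Groth.L14.Elkik
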