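import Groth.Agent.L14.Elkik.Linear
import Groth.Agent.L14.Elkik.RegularMatrix
import Groth.Agent.L14.Elkik.InnerInverse
import Groth.Agent.L14.Popescu.Approx
import Mathlib.RingTheory.AdicCompletion.RingHom

/-!
Algebraization of modules locally free away from the closed set.
-/

set_option autoImplicit false
set_option linter.style.haveILetI false

noncomputable section

open Matrix TensorProduct

namespace Groth.L14.Elkik

universe u

variable {B Bc : Type u} [CommRing B] [CommRing Bc] [Algebra B Bc]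

theorem mapMatrix_smul {a b : ℕ} (r : B) (X : Matrix (Fin b) (Fin a) B) :
    (r • X).map (algebraMap B Bc) = algebraMap B Bc r • X.map (algebraMap B Bc) := by
  ext i j; simp

theorem exists_inner_inverse_descent {a b : ℕ} (l : List B) (hb : BddTors l ⊥) (e : ℕ) :
    ∀ (Φ : Matrix (Fin b) (Fin a) B) (Hm : Fin l.length → Matrix (Fin a) (Fin b) B),
      (∀ m, Φ * Hm m * Φ = (l.get m) ^ e • Φ) →
      (∀ n (x : Bc), ∃ y : B, x - algebraMap B Bc y ∈ (Ideal.span {b | b ∈ l} ^ n).map (algebraMap B Bc)) →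
      (∀ n (y : B), algebraMap B Bc y ∈ (Ideal.span {b | b ∈ l} ^ n).map (algebraMap B Bc) → y ∈ Ideal.span {b | b ∈ l} ^ n) →
      ∀ (s : B) (H' : Matrix (Fin a) (Fin b) Bc),
        Φ.map (algebraMap B Bc) * H' * Φ.map (algebraMap B Bc) = algebraMap B Bc s • Φ.map (algebraMap B Bc) →
      ∃ H : Matrix (Fin a) (Fin b) B, Φ * H * Φ = s • Φ := by
  classical
  intro Φ Hm hΦ hden hker s H' hs
  obtain ⟨k₀, hk₀⟩ := exists_linear_solution (ι := Fin a × Fin b) (κ := Fin b × Fin a) l (e + e) ⊥ hb 1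
  choose z₁ hz₁ using fun p : Fin a × Fin b => hden k₀ (H' p.1 p.2)
  let uc {α β : Type} (z : α × β → B) : Matrix α β B := Matrix.of fun i j => z (i, j)
  let T : (Fin a × Fin b → B) →ₗ[B] (Fin b × Fin a → B) :=
    { toFun := fun z p => (Φ * uc z * Φ) p.1 p.2
      map_add' := fun x y => funext fun p => by
        rw [show uc (x + y) = uc x + uc y from rfl, Matrix.mul_add, Matrix.add_mul]; rfl
      map_smul' := fun r x => funext fun p => by
        rw [show uc (r • x) = r • uc x from rfl, Matrix.mul_smul, Matrix.smul_mul]; rfl }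
  let Δ : Fin b × Fin a → B := fun p => (s • Φ - Φ * uc z₁ * Φ) p.1 p.2
  obtain ⟨z, -, hz⟩ := hk₀ T Δ (fun t ht => by
    obtain ⟨m, rfl⟩ := List.get_of_mem ht
    refine ⟨{ toFun := fun x p => (Hm m * uc x * Hm m) p.1 p.2
              map_add' := fun x y => funext fun p => by
                rw [show uc (x + y) = uc x + uc y from rfl, Matrix.mul_add, Matrix.add_mul]; rfl
              map_smul' := fun r x => funext fun p => by
                rw [show uc (r • x) = r • uc x from rfl, Matrix.mul_smul, Matrix.smul_mul]; rfl }, fun x => funext fun p => ?_⟩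
    show (Φ * (Hm m * (Φ * uc x * Φ) * Hm m) * Φ) p.1 p.2 = ((l.get m) ^ (e + e) • (Φ * uc x * Φ)) p.1 p.2
    rw [show Φ * (Hm m * (Φ * uc x * Φ) * Hm m) * Φ = (Φ * Hm m * Φ) * uc x * (Φ * Hm m * Φ) by
      simp only [Matrix.mul_assoc], hΦ, Matrix.smul_mul, Matrix.smul_mul, Matrix.mul_smul, smul_smul, ← pow_add])
    (fun t ht => by
      obtain ⟨m, rfl⟩ := List.get_of_mem ht
      refine ⟨fun p => ((s * (l.get m) ^ e) • Hm m - (l.get m) ^ (e + e) • uc z₁) p.1 p.2, fun p => ?_⟩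
      rw [Ideal.mem_bot, sub_eq_zero]
      show ((l.get m) ^ (e + e) • (s • Φ - Φ * uc z₁ * Φ)) p.1 p.2 =
        (Φ * ((s * (l.get m) ^ e) • Hm m - (l.get m) ^ (e + e) • uc z₁) * Φ) p.1 p.2
      rw [Matrix.mul_sub, Matrix.sub_mul, Matrix.mul_smul, Matrix.smul_mul, hΦ, Matrix.mul_smul, Matrix.smul_mul,
        smul_smul, smul_sub, smul_smul, mul_assoc s, ← pow_add, mul_comm s])
    (fun p => Submodule.mem_sup_left (hker k₀ _ (by
      have e1 : algebraMap B Bc (Δ p) =
          (Φ.map (algebraMap B Bc) * (H' - (uc z₁).map (algebraMap B Bc)) * Φ.map (algebraMap B Bc)) p.1 p.2 := by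
        rw [Matrix.mul_sub, Matrix.sub_mul, hs, ← mapMatrix_smul, ← Matrix.map_mul, ← Matrix.map_mul,
          ← Matrix.map_sub _ (map_sub (algebraMap B Bc))]
        rfl
      rw [e1]
      simp only [Matrix.mul_apply, Finset.sum_mul]
      refine Ideal.sum_mem _ fun i _ => Ideal.sum_mem _ fun j _ => Ideal.mul_mem_right _ _ (Ideal.mul_mem_left _ _ ?_)
      exact hz₁ (j, i))))
  refine ⟨uc z₁ + uc z, ?_⟩
  ext i j
  have h1 := hz (i, j)
  rw [Ideal.mem_bot, sub_eq_zero] at h1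
  rw [Matrix.mul_add, Matrix.add_mul, Matrix.add_apply, show (Φ * uc z * Φ) i j = Δ (i, j) from h1]
  exact add_sub_cancel _ _

theorem isUnit_one_add_of_mem {n : ℕ} {R : Type u} [CommRing R] {I : Ideal R} (hI : I ≤ (⊥ : Ideal R).jacobson)
    (g : Matrix (Fin n) (Fin n) R) (hg : ∀ i j, g i j ∈ I) : IsUnit (1 + g) := by
  rw [Matrix.isUnit_iff_isUnit_det]
  refine Groth.L05.isUnit_of_isUnit_mk hI ?_
  rw [RingHom.map_det, show (Ideal.Quotient.mk I).mapMatrix (1 + g) = 1 from ?_, Matrix.det_one]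
  · exact isUnit_one
  rw [map_add, map_one, add_eq_left]
  ext i j : 2
  exact Ideal.Quotient.eq_zero_iff_mem.mpr (hg i j)

/-- Nearby matrices with inner inverses over a Noetherian complete ring are equivalent. -/
theorem exists_equiv_matrices {R : Type u} [CommRing R] [IsNoetherianRing R] {a b : ℕ} (l : List R)
    (hjac : Ideal.span {x | x ∈ l} ≤ (⊥ : Ideal R).jacobson) (e : ℕ) (Φ₀ : Matrix (Fin b) (Fin a) R)
    (H₀ : Fin l.length → Matrix (Fin a) (Fin b) R) (h₀ : ∀ m, Φ₀ * H₀ m * Φ₀ = (l.get m) ^ e • Φ₀) :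
    ∃ k : ℕ, ∀ (Φ : Matrix (Fin b) (Fin a) R) (H : Fin l.length → Matrix (Fin a) (Fin b) R),
      (∀ m, Φ * H m * Φ = (l.get m) ^ e • Φ) → (∀ i j, (Φ - Φ₀) i j ∈ Ideal.span {x | x ∈ l} ^ k) →
      ∃ (g : (Matrix (Fin b) (Fin b) R)ˣ) (h : (Matrix (Fin a) (Fin a) R)ˣ),
        (g : Matrix (Fin b) (Fin b) R) * Φ₀ = Φ * (h : Matrix (Fin a) (Fin a) R) := by
  classical
  obtain ⟨k₀, hk₀⟩ := exists_linear_solution (ι := Fin b × Fin b ⊕ Fin a × Fin a) (κ := Fin b × Fin a) l (e + e) ⊥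
    (bddTors_of_isNoetherianRing _ _) 1
  refine ⟨k₀, fun Φ H hΦ hclose => ?_⟩
  let uc {α β : Type} (z : α × β → R) : Matrix α β R := Matrix.of fun i j => z (i, j)
  let G₁ (z : Fin b × Fin b ⊕ Fin a × Fin a → R) : Matrix (Fin b) (Fin b) R := uc fun p => z (.inl p)
  let G₂ (z : Fin b × Fin b ⊕ Fin a × Fin a → R) : Matrix (Fin a) (Fin a) R := uc fun p => z (.inr p)
  let T : (Fin b × Fin b ⊕ Fin a × Fin a → R) →ₗ[R] (Fin b × Fin a → R) :=
    { toFun := fun z p => (G₁ z * Φ₀ - Φ * G₂ z) p.1 p.2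
      map_add' := fun x y => funext fun p => by
        rw [show G₁ (x + y) = G₁ x + G₁ y from rfl, show G₂ (x + y) = G₂ x + G₂ y from rfl, Matrix.add_mul, Matrix.mul_add,
          add_sub_add_comm]
        rfl
      map_smul' := fun r x => funext fun p => by
        rw [show G₁ (r • x) = r • G₁ x from rfl, show G₂ (r • x) = r • G₂ x from rfl, Matrix.smul_mul, Matrix.mul_smul,
          ← smul_sub]
        rfl }
  let P (U : Matrix (Fin b) (Fin b) R) (V : Matrix (Fin a) (Fin a) R) : Fin b × Fin b ⊕ Fin a × Fin a → R :=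
    Sum.elim (fun p => U p.1 p.2) (fun p => V p.1 p.2)
  have hTP : ∀ U V, T (P U V) = fun p => (U * Φ₀ - Φ * V) p.1 p.2 := fun U V => rfl
  obtain ⟨z, hz, hzΔ⟩ := hk₀ T (fun p => (Φ - Φ₀) p.1 p.2) (fun t ht => by
    obtain ⟨m, rfl⟩ := List.get_of_mem ht
    let d := (l.get m) ^ e
    refine ⟨{ toFun := fun x => P (d • (uc x * H₀ m)) (-(H m * uc x * (d • (1 : Matrix (Fin a) (Fin a) R) - H₀ m * Φ₀)))
              map_add' := fun x y => funext fun p => by
                rw [show uc (x + y) = uc x + uc y from rfl, Matrix.add_mul, smul_add, Matrix.mul_add, Matrix.add_mul, neg_add]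
                rcases p with p | p <;> rfl
              map_smul' := fun r x => funext fun p => by
                rw [show uc (r • x) = r • uc x from rfl, Matrix.smul_mul, smul_comm, Matrix.mul_smul, Matrix.smul_mul, ← smul_neg]
                rcases p with p | p <;> rfl }, fun w => ?_⟩
    refine (hTP _ _).trans (funext fun p => ?_)
    show _ = ((l.get m) ^ (e + e) • (G₁ w * Φ₀ - Φ * G₂ w)) p.1 p.2
    rw [show uc (T w) = G₁ w * Φ₀ - Φ * G₂ w from rfl]
    refine congrFun (congrFun ?_ p.1) p.2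
    have a1 : ∀ Y : Matrix (Fin b) (Fin b) R, Y * Φ₀ * H₀ m * Φ₀ = d • (Y * Φ₀) := fun Y => by
      rw [Matrix.mul_assoc Y, Matrix.mul_assoc Y, h₀, Matrix.mul_smul]
    have a2 : Φ * H m * Φ = d • Φ := hΦ m
    rw [show (l.get m) ^ (e + e) = d * d from pow_add _ _ _]
    simp only [Matrix.smul_mul, Matrix.mul_neg, Matrix.mul_sub, Matrix.sub_mul, Matrix.mul_smul, Matrix.mul_one,
      smul_sub, sub_neg_eq_add, smul_smul, ← Matrix.mul_assoc, a1, a2, Matrix.smul_mul]
    abel)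
    (fun t ht => by
      obtain ⟨m, rfl⟩ := List.get_of_mem ht
      let d := (l.get m) ^ e
      refine ⟨P (d • (Φ * (H m - H₀ m) + (Φ - Φ₀) * H₀ m)) (-(d • (H m * (Φ - Φ₀)))), fun p => ?_⟩
      rw [Ideal.mem_bot, sub_eq_zero, hTP]
      show ((l.get m) ^ (e + e) • (Φ - Φ₀)) p.1 p.2 = _
      refine congrFun (congrFun ?_ p.1) p.2
      have a1 : ∀ Y : Matrix (Fin b) (Fin b) R, Y * Φ₀ * H₀ m * Φ₀ = d • (Y * Φ₀) := fun Y => by
        rw [Matrix.mul_assoc Y, Matrix.mul_assoc Y, h₀, Matrix.mul_smul]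
      have a2 : Φ * H m * Φ = d • Φ := hΦ m
      have a3 : Φ₀ * H₀ m * Φ₀ = d • Φ₀ := h₀ m
      rw [show (l.get m) ^ (e + e) = d * d from pow_add _ _ _]
      simp only [Matrix.smul_mul, Matrix.add_mul, Matrix.mul_neg, Matrix.mul_sub, Matrix.sub_mul, Matrix.mul_smul,
        smul_sub, smul_add, sub_neg_eq_add, ← Matrix.mul_assoc, a1, a2, a3, smul_smul]
      abel)
    (fun p => Submodule.mem_sup_left (hclose p.1 p.2))
  have hI1 : ∀ p, z p ∈ Ideal.span {x | x ∈ l} := fun p => by simpa using hz p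
  obtain ⟨g, hg⟩ := isUnit_one_add_of_mem hjac (G₁ z) fun i j => hI1 (.inl (i, j))
  obtain ⟨h, hh⟩ := isUnit_one_add_of_mem hjac (G₂ z) fun i j => hI1 (.inr (i, j))
  refine ⟨g, h, ?_⟩
  rw [hg, hh, Matrix.add_mul, Matrix.mul_add, Matrix.one_mul, Matrix.mul_one]
  ext i j
  have h1 := hzΔ (i, j)
  rw [Ideal.mem_bot, sub_eq_zero] at h1
  have h2 : (G₁ z * Φ₀ - Φ * G₂ z) i j = (Φ - Φ₀) i j := h1
  simp only [Matrix.sub_apply] at h2
  simp only [Matrix.add_apply]
  linear_combination h2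

theorem exists_baseChange_coker_equiv {a b : ℕ} (Φ : Matrix (Fin b) (Fin a) B) {M : Type u} [AddCommGroup M]
    [Module Bc M] (π : (Fin b → Bc) →ₗ[Bc] M) (hπ : Function.Surjective π)
    (hker : LinearMap.ker π = LinearMap.range (Φ.map (algebraMap B Bc)).mulVecLin) :
    Nonempty (Bc ⊗[B] ((Fin b → B) ⧸ LinearMap.range Φ.mulVecLin) ≃ₗ[Bc] M) := by
  classical
  letI : Module B M := Module.compHom M (algebraMap B Bc)
  haveI : IsScalarTower B Bc M := ⟨fun x y m => by
    show (x • y) • m = algebraMap B Bc x • y • m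
    rw [Algebra.smul_def, mul_smul]⟩
  let ι : (Fin b → B) →ₗ[B] (Fin b → Bc) := (Algebra.linearMap B Bc).compLeft (Fin b)
  have hιΦ : ∀ c, ι (Φ.mulVec c) = (Φ.map (algebraMap B Bc)).mulVec (algebraMap B Bc ∘ c) := fun c => funext fun i => by
    show algebraMap B Bc (Φ.mulVec c i) = _
    rw [RingHom.map_mulVec]
  let f₀ : ((Fin b → B) ⧸ LinearMap.range Φ.mulVecLin) →ₗ[B] M := Submodule.liftQ _ (π.restrictScalars B ∘ₗ ι) (by
    rintro _ ⟨c, rfl⟩
    show π (ι (Φ.mulVec c)) = 0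
    rw [hιΦ, ← LinearMap.mem_ker, hker]
    exact ⟨_, rfl⟩)
  let f := LinearMap.liftBaseChange Bc f₀
  let ψ : (Fin b → Bc) →ₗ[Bc] Bc ⊗[B] ((Fin b → B) ⧸ LinearMap.range Φ.mulVecLin) :=
    Fintype.linearCombination Bc fun i => 1 ⊗ₜ Submodule.Quotient.mk (Pi.single i 1)
  have hψι : ∀ x, ψ (ι x) = 1 ⊗ₜ Submodule.Quotient.mk x := fun x => by
    have : (ψ.restrictScalars B) ∘ₗ ι =
        (TensorProduct.mk B Bc _ 1) ∘ₗ (LinearMap.range Φ.mulVecLin).mkQ := by
      refine LinearMap.pi_ext' fun i => LinearMap.ext_ring ?_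
      show ψ (ι (Pi.single i 1)) = 1 ⊗ₜ Submodule.Quotient.mk (Pi.single i 1)
      have e : ι (Pi.single i 1) = Pi.single i 1 := funext fun j => by
        show algebraMap B Bc ((Pi.single i 1 : Fin b → B) j) = _
        by_cases hj : j = i <;> simp [hj]
      rw [e, Fintype.linearCombination_apply_single, one_smul]
    exact LinearMap.congr_fun this x
  have hψsurj : Function.Surjective ψ := fun y => by
    induction y with
    | zero => exact ⟨0, map_zero _⟩
    | tmul c q =>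
      obtain ⟨x, rfl⟩ := Submodule.Quotient.mk_surjective _ q
      exact ⟨c • ι x, by rw [map_smul, hψι, TensorProduct.smul_tmul', smul_eq_mul, mul_one]⟩
    | add x y hx hy =>
      obtain ⟨x', rfl⟩ := hx
      obtain ⟨y', rfl⟩ := hy
      exact ⟨x' + y', map_add _ _ _⟩
  have hfψ : ∀ v, f (ψ v) = π v := fun v => by
    have : f ∘ₗ ψ = π := by
      refine LinearMap.pi_ext' fun i => LinearMap.ext_ring ?_
      show f (ψ (Pi.single i 1)) = π (Pi.single i 1)
      rw [Fintype.linearCombination_apply_single, one_smul, LinearMap.liftBaseChange_tmul, one_smul]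
      show π (ι (Pi.single i 1)) = _
      congr 1
      funext j
      show algebraMap B Bc ((Pi.single i 1 : Fin b → B) j) = _
      by_cases hj : j = i <;> simp [hj]
    exact LinearMap.congr_fun this v
  have hψker : ∀ v, π v = 0 → ψ v = 0 := fun v hv => by
    rw [← LinearMap.mem_ker, hker] at hv
    obtain ⟨c, rfl⟩ := hv
    have hcol : ψ ∘ₗ (Φ.map (algebraMap B Bc)).mulVecLin = 0 := by
      refine LinearMap.pi_ext' fun j => LinearMap.ext_ring ?_
      show ψ ((Φ.map (algebraMap B Bc)).mulVec (Pi.single j 1)) = 0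
      have e : (Φ.map (algebraMap B Bc)).mulVec (Pi.single j 1) = ι (Φ.mulVec (Pi.single j 1)) := by
        rw [hιΦ]
        congr 1
        funext i
        by_cases hi : i = j <;> simp [hi]
      rw [e, hψι, (Submodule.Quotient.mk_eq_zero _).mpr (show Φ.mulVec (Pi.single j 1) ∈ LinearMap.range Φ.mulVecLin from ⟨_, rfl⟩), tmul_zero]
    exact LinearMap.congr_fun hcol c
  refine ⟨LinearEquiv.ofBijective f ⟨(injective_iff_map_eq_zero f).mpr fun y hy => ?_, fun m => ?_⟩⟩
  · obtain ⟨v, rfl⟩ := hψsurj y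
    exact hψker v (by rw [← hfψ, hy])
  · obtain ⟨v, rfl⟩ := hπ m
    exact ⟨ψ v, hfψ v⟩

end Groth.L14.Elkik
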