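import Groth.Agent.L14.Elkik.Smooth
import Groth.Agent.L14.Popescu.Approx
import Mathlib.RingTheory.Filtration
import Mathlib.RingTheory.Etale.Kaehler

/-!
Elkik's approximation theorem for algebras smooth away from the closed set.
-/

set_option autoImplicit false
set_option linter.style.haveILetI false

noncomputable section

open MvPolynomial

namespace Groth.L14.Elkik

universe u

/-- Approximate maps from an algebra smooth away from `V(I)` to a henselian Noetherian algebra lift. -/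
theorem exists_algHom_approx {A : Type u} [CommRing A] (I : Ideal A) (hI : I.FG) {B : Type u} [CommRing B] [Algebra A B]
    [Algebra.FiniteType A B]
    (hB : ∀ a ∈ I, Algebra.FormallySmooth A (Localization.Away (algebraMap A B a)) ∧
      Algebra.FinitePresentation A (Localization.Away (algebraMap A B a)))
    (R : Type u) [CommRing R] [Algebra A R] [IsNoetherianRing R] [HenselianRing R (I.map (algebraMap A R))] (k : ℕ) :
    ∃ k₀, ∀ σ : B →ₐ[A] R ⧸ (I.map (algebraMap A R)) ^ k₀, ∃ τ : B →ₐ[A] R, ∀ (b : B) (r : R),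
      Ideal.Quotient.mk _ r = σ b → τ b - r ∈ (I.map (algebraMap A R)) ^ k := by
  classical
  obtain ⟨n, π, hπ⟩ := Algebra.FiniteType.iff_quotient_mvPolynomial''.mp (inferInstance : Algebra.FiniteType A B)
  obtain ⟨s, hs⟩ := hI
  let J : Ideal (MvPolynomial (Fin n) A) := RingHom.ker π
  obtain ⟨k₀, hk₀⟩ := exists_root_of_approx (I.map (algebraMap A R)) (J.map (MvPolynomial.map (algebraMap A R)))
    (s.image (algebraMap A R)) (by rw [Finset.coe_image, ← Ideal.map_span, ← hs]) (fun a ha => by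
      obtain ⟨a, ha', rfl⟩ := Finset.mem_image.mp ha
      obtain ⟨h1, h2⟩ := hB a (hs ▸ Ideal.subset_span ha')
      exact (isSplitAt_of_formallySmooth π hπ a (Localization.Away (algebraMap A B a))).map _) k
  refine ⟨max k₀ k, fun σ => ?_⟩
  let I' := I.map (algebraMap A R)
  choose x₁ hx₁ using fun i : Fin n => Ideal.Quotient.mk_surjective (σ (π (X i)))
  have hev : ∀ (x : Fin n → R) (g : MvPolynomial (Fin n) A),
      eval x (MvPolynomial.map (algebraMap A R) g) = aeval x g := fun x g => by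
    rw [eval_map, aeval_def]
  have hσ : ∀ g : MvPolynomial (Fin n) A, Ideal.Quotient.mk (I' ^ max k₀ k) (aeval x₁ g) = σ (π g) := by
    have : (Ideal.Quotient.mkₐ A (I' ^ max k₀ k)).comp (aeval x₁) = σ.comp π :=
      MvPolynomial.algHom_ext fun i => by simpa using hx₁ i
    exact fun g => AlgHom.congr_fun this g
  obtain ⟨x, hx, hroot⟩ := hk₀ x₁ fun g hg => by
    induction hg using Submodule.span_induction with
    | mem y hy =>
      obtain ⟨g, hg, rfl⟩ := hy
      rw [hev]
      refine Ideal.pow_le_pow_right (le_max_left k₀ k) (Ideal.Quotient.eq_zero_iff_mem.mp ?_)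
      rw [hσ, show π g = 0 from hg, map_zero]
    | zero => simp
    | add a b _ _ ha hb => rw [map_add]; exact Ideal.add_mem _ ha hb
    | smul a b _ hb => rw [smul_eq_mul, map_mul]; exact Ideal.mul_mem_left _ _ hb
  refine ⟨AlgHom.liftOfSurjective π hπ (aeval x) fun g hg => by
    show aeval x g = 0
    rw [← hev]; exact hroot _ (Ideal.mem_map_of_mem _ hg), fun b r hr => ?_⟩
  obtain ⟨g, rfl⟩ := hπ b
  rw [AlgHom.liftOfSurjective_apply]
  have h1 : aeval x g - aeval x₁ g ∈ I' ^ k := by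
    have := aeval_add_sub_mem (A := A) x₁ (x - x₁) (I' ^ k) hx g
    rwa [add_sub_cancel] at this
  have h2 : aeval x₁ g - r ∈ I' ^ k :=
    Ideal.pow_le_pow_right (le_max_right k₀ k) (Ideal.Quotient.eq.mp ((hσ g).trans hr.symm))
  have := (I' ^ k).add_mem h1 h2
  rwa [sub_add_sub_cancel] at this

theorem exists_pow_smul_kaehler_eq_zero {A B : Type u} [CommRing A] [CommRing B] [Algebra A B] (t : A)
    [Algebra.FormallyUnramified A (Localization.Away (algebraMap A B t))] (b : B) :
    ∃ e : ℕ, (algebraMap A B t) ^ e • KaehlerDifferential.D A B b = 0 := by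
  let L := Localization.Away (algebraMap A B t)
  haveI := KaehlerDifferential.isLocalizedModule_map (R := A) (S := B) (T := L) (Submonoid.powers (algebraMap A B t))
  obtain ⟨⟨_, e, rfl⟩, he⟩ := (IsLocalizedModule.eq_zero_iff (Submonoid.powers (algebraMap A B t))
    (KaehlerDifferential.map A A B L)).mp (Subsingleton.elim (KaehlerDifferential.map A A B L (KaehlerDifferential.D A B b)) 0)
  exact ⟨e, he⟩

set_option maxHeartbeats 400000 in
/-- Rigidity of maps from an algebra unramified away from `V(I)`. -/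
theorem exists_eq_of_congruent {A : Type u} [CommRing A] (I : Ideal A) (hI : I.FG) {B : Type u} [CommRing B]
    [Algebra A B] [Algebra.FiniteType A B]
    (hB : ∀ a ∈ I, Algebra.FormallyUnramified A (Localization.Away (algebraMap A B a)))
    (R : Type u) [CommRing R] [Algebra A R] [IsNoetherianRing R]
    (hjac : I.map (algebraMap A R) ≤ (⊥ : Ideal R).jacobson) :
    ∃ k : ℕ, ∀ τ τ' : B →ₐ[A] R, (∀ b, τ' b - τ b ∈ (I.map (algebraMap A R)) ^ k) → τ = τ' := by
  classical
  obtain ⟨n, π, hπ⟩ := Algebra.FiniteType.iff_quotient_mvPolynomial''.mp (inferInstance : Algebra.FiniteType A B)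
  obtain ⟨s, hs⟩ := hI
  choose e he using fun (a : s) (i : Fin n) =>
    haveI := hB a (hs ▸ Ideal.subset_span a.2)
    exists_pow_smul_kaehler_eq_zero (A := A) (B := B) (a : A) (π (X i))
  let E := Finset.univ.sup fun p : s × Fin n => e p.1 p.2
  let I' := I.map (algebraMap A R)
  obtain ⟨N, hN⟩ : ∃ N, I' ^ N ≤ Ideal.span ((fun a : A => algebraMap A R a ^ E) '' s) := by
    refine Ideal.exists_pow_le_of_le_radical_of_fg ?_ (IsNoetherian.noetherian _)
    refine Ideal.map_le_iff_le_comap.mpr (hs.ge.trans (Ideal.span_le.mpr fun a ha => ?_))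
    exact ⟨E, Ideal.subset_span ⟨a, ha, rfl⟩⟩
  obtain ⟨c, hc⟩ := Ideal.exists_pow_inf_eq_pow_smul I' (Submodule.annihilator (I' ^ N))
  refine ⟨N + N + c + 1, fun τ τ' h => ?_⟩
  let δ : B → R := fun b => τ' b - τ b
  let 𝔡 : Ideal R := Ideal.span (Set.range fun i => δ (π (X i)))
  have hδ : ∀ b, δ b ∈ 𝔡 := fun b => by
    obtain ⟨g, rfl⟩ := hπ b
    have h1 := aeval_add_sub_mem (A := A) (fun i => τ (π (X i))) (fun i => δ (π (X i))) 𝔡
      (fun i => Ideal.subset_span ⟨i, rfl⟩) g
    rw [show (fun i => τ (π (X i))) + (fun i => δ (π (X i))) = fun i => τ' (π (X i)) from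
      funext fun i => by simp [δ]] at h1
    have hu : ∀ φ : B →ₐ[A] R, aeval (fun i => φ (π (X i))) g = φ (π g) := fun φ => by
      have h2 : aeval (fun i => φ (π (X i))) = φ.comp π := MvPolynomial.algHom_ext fun i => by simp
      exact AlgHom.congr_fun h2 g
    rwa [hu, hu] at h1
  letI : Algebra B (R ⧸ 𝔡 ^ 2) := ((Ideal.Quotient.mk (𝔡 ^ 2)).comp τ.toRingHom).toAlgebra
  haveI : IsScalarTower A B (R ⧸ 𝔡 ^ 2) := IsScalarTower.of_algebraMap_eq fun a => by
    show Ideal.Quotient.mk _ (algebraMap A R a) = Ideal.Quotient.mk _ (τ (algebraMap A B a))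
    rw [τ.commutes]
  let δl : B →ₗ[A] R ⧸ 𝔡 ^ 2 := (Ideal.Quotient.mkₐ A (𝔡 ^ 2)).toLinearMap.comp (τ'.toLinearMap - τ.toLinearMap)
  let Δ : Derivation A B (R ⧸ 𝔡 ^ 2) := Derivation.mk' δl fun a b => by
    show Ideal.Quotient.mk (𝔡 ^ 2) (δ (a * b)) = a • Ideal.Quotient.mk (𝔡 ^ 2) (δ b) + b • Ideal.Quotient.mk (𝔡 ^ 2) (δ a)
    rw [Algebra.smul_def, Algebra.smul_def]
    show Ideal.Quotient.mk (𝔡 ^ 2) (δ (a * b)) =
      Ideal.Quotient.mk (𝔡 ^ 2) (τ a) * _ + Ideal.Quotient.mk (𝔡 ^ 2) (τ b) * _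
    rw [← map_mul, ← map_mul, ← map_add, Ideal.Quotient.eq, pow_two]
    convert Ideal.mul_mem_mul (hδ a) (hδ b) using 1
    simp only [δ, map_mul]
    ring
  have hkill : ∀ (a : s) (i : Fin n), algebraMap A R (a : A) ^ E * δ (π (X i)) ∈ 𝔡 ^ 2 := fun a i => by
    have h1 := congrArg Δ.liftKaehlerDifferential (he a i)
    rw [map_smul, Derivation.liftKaehlerDifferential_comp_D, map_zero, Algebra.smul_def] at h1
    have h2 : algebraMap A R (a : A) ^ e a i * δ (π (X i)) ∈ 𝔡 ^ 2 := by
      rw [← Ideal.Quotient.eq_zero_iff_mem, map_mul, map_pow]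
      rw [map_pow, ← IsScalarTower.algebraMap_apply] at h1
      exact h1
    rw [← Nat.sub_add_cancel (show e a i ≤ E from Finset.le_sup (f := fun p : s × Fin n => e p.1 p.2) (Finset.mem_univ (a, i))),
      pow_add, mul_assoc]
    exact Ideal.mul_mem_left _ _ h2
  have hle : I' ^ N * 𝔡 ≤ 𝔡 ^ 2 := by
    refine (Ideal.mul_mono_left hN).trans ?_
    rw [Ideal.span_mul_span', Ideal.span_le]
    rintro _ ⟨_, ⟨a, ha, rfl⟩, _, ⟨i, rfl⟩, rfl⟩
    exact hkill ⟨a, ha⟩ i
  have hd : 𝔡 ≤ I' ^ (N + N + c + 1) := Ideal.span_le.mpr (by rintro _ ⟨i, rfl⟩; exact h _)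
  have hzero : I' ^ N * 𝔡 = ⊥ := by
    refine Submodule.eq_bot_of_le_smul_of_le_jacobson_bot I' _ (IsNoetherian.noetherian _) (hle.trans ?_) hjac
    rw [pow_two]
    refine (Ideal.mul_mono_left hd).trans ?_
    rw [smul_eq_mul, show N + N + c + 1 = 1 + N + (N + c) by omega, pow_add, pow_add, pow_one, mul_assoc I', mul_assoc I']
    refine Ideal.mul_mono_right ?_
    rw [mul_assoc]
    exact Ideal.mul_mono_right Ideal.mul_le_right
  have hbot : 𝔡 = ⊥ := by
    rw [eq_bot_iff]
    intro x hx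
    have hann : x ∈ Submodule.annihilator (I' ^ N) := Submodule.mem_annihilator.mpr fun w hw => by
      rw [smul_eq_mul, mul_comm, ← Ideal.mem_bot (R := R), ← hzero]
      exact Ideal.mul_mem_mul hw hx
    have h1 : x ∈ I' ^ (N + N + c + 1) • (⊤ : Submodule R R) ⊓ Submodule.annihilator (I' ^ N) :=
      ⟨by rw [smul_eq_mul, Ideal.mul_top]; exact hd hx, hann⟩
    rw [hc _ (by omega)] at h1
    refine Submodule.smul_induction_on h1 (fun w hw v hv => ?_) fun a b ha hb => add_mem ha hb
    rw [Ideal.mem_bot, smul_eq_mul, mul_comm]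
    exact Submodule.mem_annihilator.mp hv.2 w (Ideal.pow_le_pow_right (by omega) hw)
  refine AlgHom.ext fun b => (sub_eq_zero.mp ?_).symm
  exact (Submodule.mem_bot R).mp (hbot ▸ hδ b)

end Groth.L14.Elkik
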