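import Groth.Agent.L05.Hensel.Smooth
import Groth.Agent.L05.Hensel.Perm
import Mathlib.RingTheory.Ideal.Operations

/-!
Elkik's approximation theorem for presentations that split away from the closed set.
-/

set_option autoImplicit false
set_option linter.style.haveILetI false

noncomputable section

open MvPolynomial

namespace Groth.L14.Elkik

universe u

variable {A : Type u} [CommRing A]

/-- The presentation ideal `J` splits the cotangent sequence away from the zero set of `t`. -/
def IsSplitAt {n : ℕ} (J : Ideal (MvPolynomial (Fin n) A)) (t : A) : Prop :=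
  ∃ (c : ℕ) (J₀ : Ideal (MvPolynomial (Fin n) A)) (f : Fin n → MvPolynomial (Fin n) A),
    J₀.FG ∧ J₀ ≤ J ∧ (∀ i, f i ∈ J₀) ∧ (∀ g ∈ J, ∃ d, C t ^ d * g ∈ J₀) ∧
      ∀ g ∈ J₀, C t ^ c * g - ∑ i, pderiv i g * f i ∈ J₀ ^ 2

theorem IsSplitAt.map {A' : Type u} [CommRing A'] (ψ : A →+* A') {n : ℕ}
    {J : Ideal (MvPolynomial (Fin n) A)} {t : A} (h : IsSplitAt J t) :
    IsSplitAt (J.map (MvPolynomial.map ψ)) (ψ t) := by
  obtain ⟨c, J₀, f, hfg, hle, hf, hJ, hrel⟩ := h
  let J₁ := J₀.map (MvPolynomial.map ψ)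
  have hf' : ∀ i, MvPolynomial.map ψ (f i) ∈ J₁ := fun i => Ideal.mem_map_of_mem _ (hf i)
  refine ⟨c, J₁, fun i => MvPolynomial.map ψ (f i), hfg.map _, Ideal.map_mono hle, hf', fun g hg => ?_,
    fun g hg => ?_⟩
  · induction hg using Submodule.span_induction with
    | mem x hx =>
      obtain ⟨y, hy, rfl⟩ := hx
      obtain ⟨d, hd⟩ := hJ y hy
      refine ⟨d, ?_⟩
      rw [← map_C, ← map_pow, ← map_mul]
      exact Ideal.mem_map_of_mem _ hd
    | zero => exact ⟨0, by simp⟩
    | add a b _ _ ha hb =>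
      obtain ⟨d₁, h₁⟩ := ha
      obtain ⟨d₂, h₂⟩ := hb
      refine ⟨d₁ + d₂, ?_⟩
      rw [mul_add]
      refine J₁.add_mem ?_ ?_
      · rw [pow_add, mul_comm (C (ψ t) ^ d₁), mul_assoc]; exact J₁.mul_mem_left _ h₁
      · rw [pow_add, mul_assoc]; exact J₁.mul_mem_left _ h₂
    | smul a b _ hb =>
      obtain ⟨d, hd⟩ := hb
      exact ⟨d, by rw [smul_eq_mul, mul_left_comm]; exact J₁.mul_mem_left _ hd⟩
  · induction hg using Submodule.span_induction with
    | mem x hx =>
      obtain ⟨y, hy, rfl⟩ := hx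
      have h1 := Ideal.mem_map_of_mem (MvPolynomial.map ψ) (hrel y hy)
      rw [Ideal.map_pow, map_sub, map_mul, map_pow, map_C, map_sum] at h1
      simpa only [map_mul, pderiv_map] using h1
    | zero => simp
    | add a b _ _ ha hb =>
      convert (J₁ ^ 2).add_mem ha hb using 1
      simp only [map_add, add_mul, Finset.sum_add_distrib]
      ring
    | smul a b hb ih =>
      have h2 : ∑ i, pderiv i a * b * MvPolynomial.map ψ (f i) ∈ J₁ ^ 2 := Ideal.sum_mem _ fun i _ => by
        rw [pow_two]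
        exact Ideal.mul_mem_mul (J₁.mul_mem_left _ hb) (hf' i)
      convert (J₁ ^ 2).sub_mem ((J₁ ^ 2).mul_mem_left a ih) h2 using 1
      have e : ∀ i, pderiv i (a • b) * MvPolynomial.map ψ (f i) =
          a * (pderiv i b * MvPolynomial.map ψ (f i)) + pderiv i a * b * MvPolynomial.map ψ (f i) := fun i => by
        rw [smul_eq_mul, pderiv_mul]; ring
      rw [Finset.sum_congr rfl fun i _ => e i, Finset.sum_add_distrib, ← Finset.mul_sum, smul_eq_mul]
      ring

variable {R : Type u} [CommRing R] [Algebra A R] {n : ℕ} (y z : Fin n → R) (K : Ideal R) (hz : ∀ i, z i ∈ K)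

include hz in
theorem aeval_add_sub_mem (g : MvPolynomial (Fin n) A) : aeval (y + z) g - aeval y g ∈ K := by
  induction g using MvPolynomial.induction_on with
  | C a => simp
  | add p q hp hq => rw [map_add, map_add, add_sub_add_comm]; exact K.add_mem hp hq
  | mul_X p k hp =>
    rw [map_mul, map_mul, aeval_X, aeval_X, Pi.add_apply,
      show aeval (y + z) p * (y k + z k) - aeval y p * y k =
        (aeval (y + z) p - aeval y p) * y k + aeval (y + z) p * z k by ring]
    exact K.add_mem (K.mul_mem_right _ hp) (K.mul_mem_left _ (hz k))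

include hz in
theorem aeval_add_taylor (g : MvPolynomial (Fin n) A) :
    aeval (y + z) g - aeval y g - ∑ i, aeval y (pderiv i g) * z i ∈ K ^ 2 := by
  induction g using MvPolynomial.induction_on with
  | C a => simp
  | add p q hp hq =>
    convert (K ^ 2).add_mem hp hq using 1
    simp only [map_add, add_mul, Finset.sum_add_distrib]
    ring
  | mul_X p k hp =>
    have h1 : (aeval (y + z) p - aeval y p) * z k ∈ K ^ 2 := by
      rw [pow_two]
      exact Ideal.mul_mem_mul (aeval_add_sub_mem y z K hz p) (hz k)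
    convert (K ^ 2).add_mem ((K ^ 2).mul_mem_right (y k) hp) h1 using 1
    have e : ∑ i, aeval y (pderiv i (p * X k)) * z i = (∑ i, aeval y (pderiv i p) * z i) * y k + aeval y p * z k := by
      simp only [pderiv_mul, map_add, map_mul, aeval_X, add_mul, Finset.sum_add_distrib, Finset.sum_mul]
      congr 1
      · exact Finset.sum_congr rfl fun i _ => by ring
      · rw [Finset.sum_eq_single k]
        · rw [pderiv_X_self, map_one, mul_one]
        · intro i _ hi
          rw [pderiv_X_of_ne hi.symm, map_zero, mul_zero, zero_mul]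
        · simp
    rw [e, map_mul, map_mul, aeval_X, aeval_X, Pi.add_apply]
    ring

omit hz

set_option maxHeartbeats 800000 in
/-- The square system attached to an approximate root. -/
theorem exists_newton_step (t : A) (c m : ℕ) (hm : m ≠ 0) [HenselianRing A (Ideal.span {t})]
    (f : Fin n → MvPolynomial (Fin n) A) (x₁ : Fin n → A) (h : ∀ j, eval x₁ (f j) ∈ Ideal.span {t ^ (c + c + m)}) :
    ∃ z : Fin n → A, (∀ i, z i ∈ Ideal.span {t ^ (c + m)}) ∧
      ∀ j, eval (x₁ + z) (f j) + t ^ c * z j - ∑ i, eval (x₁ + z) (pderiv i (f j)) * z i = 0 := by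
  classical
  simp only [Ideal.mem_span_singleton'] at h
  choose ε hε using h
  let P := MvPolynomial (Fin n) A
  let M : Ideal P := Ideal.span (Set.range X)
  let K : Ideal P := Ideal.span {C (t ^ c)} * M
  let Y : Fin n → P := fun i => C (x₁ i)
  let Z : Fin n → P := fun i => C (t ^ c) * X i
  have hZ : ∀ i, Z i ∈ K := fun i => Ideal.mul_mem_mul (Ideal.mem_span_singleton_self _) (Ideal.subset_span ⟨i, rfl⟩)
  have hbr : ∀ j, aeval (Y + Z) (f j) - aeval Y (f j) - ∑ i, aeval (Y + Z) (pderiv i (f j)) * Z i ∈ K ^ 2 := fun j => by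
    have h2 : ∑ i, (aeval (Y + Z) (pderiv i (f j)) - aeval Y (pderiv i (f j))) * Z i ∈ K ^ 2 :=
      Ideal.sum_mem _ fun i _ => by rw [pow_two]; exact Ideal.mul_mem_mul (aeval_add_sub_mem Y Z K hZ _) (hZ i)
    convert (K ^ 2).sub_mem (aeval_add_taylor Y Z K hZ (f j)) h2 using 1
    simp only [sub_mul, Finset.sum_sub_distrib]
    ring
  have hbr' : ∀ j, ∃ Q ∈ M ^ 2, C (t ^ c) ^ 2 * Q =
      aeval (Y + Z) (f j) - aeval Y (f j) - ∑ i, aeval (Y + Z) (pderiv i (f j)) * Z i := fun j => by
    refine Ideal.mem_span_singleton_mul.mp ?_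
    rw [← Ideal.span_singleton_pow, ← mul_pow]
    exact hbr j
  choose Q hQM hQ using hbr'
  haveI : HenselianRing A (Ideal.span {t ^ m}) :=
    Groth.L05.henselianRing_mono (Ideal.span_singleton_le_span_singleton.mpr (dvd_pow_self t hm))
  let G : Fin n → P := fun j => C (ε j * t ^ m) + X j + Q j
  have hev : ∀ p ∈ M, eval (0 : Fin n → A) p = 0 := by
    intro p hp
    induction hp using Submodule.span_induction with
    | mem x hx => obtain ⟨i, rfl⟩ := hx; rw [eval_X, Pi.zero_apply]
    | zero => exact map_zero _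
    | add a b _ _ ha hb => rw [map_add, ha, hb, add_zero]
    | smul a b _ hb => rw [smul_eq_mul, map_mul, hb, mul_zero]
  obtain ⟨w, hw, hG⟩ := Groth.L05.exists_zero_of_jacobian (Ideal.span {t ^ m}) G 0
    (fun j => by
      simp only [G, map_add, eval_C, eval_X, Pi.zero_apply, hev _ (Ideal.pow_le_self two_ne_zero (hQM j)), add_zero]
      exact Ideal.mem_span_singleton'.mpr ⟨_, rfl⟩)
    (by
      rw [RingHom.map_det, show (eval (0 : Fin n → A)).mapMatrix (Matrix.of fun i j => pderiv i (G j)) = 1 from ?_,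
        Matrix.det_one, map_one]
      · exact isUnit_one
      ext i j
      simp only [RingHom.mapMatrix_apply, Matrix.map_apply, Matrix.of_apply, G, map_add, pderiv_C, zero_add,
        hev _ (Groth.L05.pderiv_mem_of_mem_sq M (hQM j) i), add_zero]
      by_cases hij : i = j
      · subst hij; rw [pderiv_X_self, map_one, Matrix.one_apply_eq]
      · rw [pderiv_X_of_ne (Ne.symm hij), map_zero, Matrix.one_apply_ne hij])
  refine ⟨fun i => t ^ c * w i, fun i => ?_, fun j => ?_⟩
  · obtain ⟨a, ha⟩ := Ideal.mem_span_singleton'.mp (by simpa using hw i)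
    exact Ideal.mem_span_singleton'.mpr ⟨a, by show _ = t ^ c * w i; rw [← ha, pow_add]; ring⟩
  · have hcomp : ∀ (u : Fin n → P) (p : MvPolynomial (Fin n) A), eval w (aeval u p) = eval (fun i => eval w (u i)) p :=
      fun u p => by
        induction p using MvPolynomial.induction_on with
        | C a => rw [aeval_C, MvPolynomial.algebraMap_eq, eval_C, eval_C]
        | add a b ha hb => rw [map_add, map_add, map_add, ha, hb]
        | mul_X a i ha => rw [map_mul, map_mul, map_mul, ha, aeval_X, eval_X]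
    have h1 := congrArg (eval w) (hQ j)
    simp only [map_sub, map_mul, map_pow, map_sum, eval_C, hcomp, Y, Z, Pi.add_apply, map_add, eval_X] at h1
    have h2 := hG j
    simp only [G, map_add, eval_C, eval_X] at h2
    show eval (fun i => x₁ i + t ^ c * w i) _ + _ - ∑ i, eval (fun i => x₁ i + t ^ c * w i) _ * _ = 0
    have h3 := hε j
    rw [pow_add, pow_add] at h3
    linear_combination (t ^ c * t ^ c) * h2 - h1 - h3

set_option maxHeartbeats 800000 in
/-- Elkik's approximation along a principal ideal. -/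
theorem exists_root_principal (t : A) [HenselianRing A (Ideal.span {t})] {n : ℕ}
    (J : Ideal (MvPolynomial (Fin n) A)) (hJ : IsSplitAt J t) (N : ℕ)
    (hN : ∀ (m : ℕ) (a : A), t ^ m * a = 0 → t ^ N * a = 0) :
    ∃ q : ℕ, ∀ (k : ℕ) (x₁ : Fin n → A), (∀ g ∈ J, eval x₁ g ∈ Ideal.span {t ^ (k + q)}) →
      ∃ x : Fin n → A, (∀ i, x i - x₁ i ∈ Ideal.span {t ^ k}) ∧ ∀ g ∈ J, eval x g = 0 := by
  obtain ⟨c, J₀, f, hfg, hle, hf, hJ₀, hrel⟩ := hJ
  refine ⟨c + c + (c + c + (N + 1)), fun k x₁ h => ?_⟩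
  obtain ⟨m, hm, hmc, hmN, hkm⟩ : ∃ m, k + (c + c + (c + c + (N + 1))) = c + c + m ∧ c + c < m ∧ N ≤ m ∧ k ≤ m :=
    ⟨k + (c + c + (N + 1)), by omega, by omega, by omega, by omega⟩
  rw [hm] at h
  obtain ⟨z, hz, hF⟩ := exists_newton_step t c m (by omega) f x₁ fun j => h _ (hle (hf j))
  have hle' : Ideal.span {t ^ (c + m)} ≤ Ideal.span {t ^ m} :=
    Ideal.span_singleton_le_span_singleton.mpr (pow_dvd_pow t (Nat.le_add_left m c))
  refine ⟨x₁ + z, fun i => ?_, ?_⟩
  · rw [Pi.add_apply, add_sub_cancel_left]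
    exact Ideal.span_singleton_le_span_singleton.mpr (pow_dvd_pow t hkm) (hle' (hz i))
  let e : MvPolynomial (Fin n) A →+* A := eval (x₁ + z)
  let I₀ : Ideal A := J₀.map e
  let T : Ideal A := Ideal.span {t ^ m}
  have hsmall : ∀ g ∈ J, e g ∈ T := fun g hg => by
    have h1 := aeval_add_sub_mem (A := A) x₁ z T (fun i => hle' (hz i)) g
    rw [Groth.L05.aeval_apply_eq_eval, Groth.L05.aeval_apply_eq_eval] at h1
    have h2 : eval x₁ g ∈ T := Ideal.span_singleton_le_span_singleton.mpr (pow_dvd_pow t (Nat.le_add_left m _)) (h g hg)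
    have := T.add_mem h1 h2
    rwa [sub_add_cancel] at this
  have hI₀T : I₀ ≤ T := Ideal.map_le_iff_le_comap.mpr fun g hg => hsmall g (hle hg)
  have hsq : ∀ g ∈ J₀ ^ 2, e g ∈ T * I₀ := fun g hg => by
    have := Ideal.mem_map_of_mem e hg
    rw [Ideal.map_pow, pow_two] at this
    exact Ideal.mul_mono_left hI₀T this
  let v : Fin n → A := fun j => e (f j)
  let D : Fin n → Fin n → A := fun j i => e (pderiv i (f j))
  have hv : ∀ j, v j = ∑ i, D j i * z i - t ^ c * z j := fun j => by linear_combination hF j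
  have hDD : ∀ j l, t ^ c * D j l - ∑ i, D j i * D i l ∈ I₀ := fun j l => by
    have h1 := Groth.L05.pderiv_mem_of_mem_sq J₀ (hrel (f j) (hf j)) l
    rw [map_sub, map_sum, pderiv_mul, pderiv_pow, pderiv_C, mul_zero, zero_mul, zero_add] at h1
    simp only [pderiv_mul, Finset.sum_add_distrib] at h1
    have h2 : C t ^ c * pderiv l (f j) - ∑ i, pderiv i (f j) * pderiv l (f i) ∈ J₀ := by
      have h3 := J₀.add_mem h1 (J₀.sum_mem (t := Finset.univ) (f := fun i => pderiv l (pderiv i (f j)) * f i)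
        fun i _ => J₀.mul_mem_left _ (hf i))
      convert h3 using 1
      ring
    have := Ideal.mem_map_of_mem e h2
    simpa [e, D, I₀] using this
  have hrele : ∀ g ∈ J₀, t ^ c * e g - ∑ i, e (pderiv i g) * v i ∈ T * I₀ := fun g hg => by
    have := hsq _ (hrel g hg)
    simpa [e, v] using this
  have hvT : ∀ j, t ^ c * v j ∈ T * I₀ := fun j => by
    have h1 := hrele _ (hf j)
    have h4 : ∑ l, (∑ i, D j i * D i l - t ^ c * D j l) * z l ∈ T * I₀ := Ideal.sum_mem _ fun l _ => by
      rw [mul_comm (_ - _) (z l), ← neg_sub, mul_neg]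
      exact Submodule.neg_mem _ (Ideal.mul_mem_mul (hle' (hz l)) (hDD j l))
    have key : ∑ i, D j i * v i = ∑ l, (∑ i, D j i * D i l - t ^ c * D j l) * z l := by
      simp only [hv, mul_sub, sub_mul, Finset.sum_sub_distrib, Finset.mul_sum, Finset.sum_mul, mul_assoc]
      rw [Finset.sum_comm]
      congr 1
      exact Finset.sum_congr rfl fun i _ => by ring
    have h5 := (T * I₀).add_mem h1 (key.symm ▸ h4 : ∑ i, e (pderiv i (f j)) * v i ∈ T * I₀)
    rwa [sub_add_cancel] at h5
  have hg₀ : ∀ g ∈ J₀, t ^ (c + c) * e g ∈ T * I₀ := fun g hg => by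
    have h1 : ∑ i, e (pderiv i g) * (t ^ c * v i) ∈ T * I₀ := Ideal.sum_mem _ fun i _ => Ideal.mul_mem_left _ _ (hvT i)
    have h2 := (T * I₀).add_mem (Ideal.mul_mem_left _ (t ^ c) (hrele g hg)) h1
    convert h2 using 1
    simp only [pow_add, mul_sub, Finset.mul_sum, mul_left_comm (t ^ c)]
    ring
  have hzero : Ideal.span {t ^ (c + c)} * I₀ = ⊥ := by
    refine Submodule.eq_bot_of_le_smul_of_le_jacobson_bot (Ideal.span {t}) _
      (Submodule.FG.mul (Submodule.fg_span_singleton _) (hfg.map _)) ?_ HenselianRing.jac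
    have h1 : Ideal.span {t ^ (c + c)} * I₀ ≤ T * I₀ := by
      rw [Ideal.mul_le]
      intro a ha b hb
      obtain ⟨a, rfl⟩ := Ideal.mem_span_singleton'.mp ha
      rw [mul_assoc]
      refine Ideal.mul_mem_left _ _ ?_
      induction hb using Submodule.span_induction with
      | mem x hx => obtain ⟨g, hg, rfl⟩ := hx; exact hg₀ g hg
      | zero => simp
      | add a b _ _ ha hb => rw [mul_add]; exact Ideal.add_mem _ ha hb
      | smul a b _ hb => rw [smul_eq_mul, mul_left_comm]; exact Ideal.mul_mem_left _ _ hb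
    refine h1.trans (le_trans ?_ (le_of_eq (mul_assoc _ _ _)))
    rw [Ideal.span_singleton_mul_span_singleton, ← pow_succ']
    exact Ideal.mul_mono_left (Ideal.span_singleton_le_span_singleton.mpr (pow_dvd_pow t (by omega)))
  intro g hg
  obtain ⟨a, ha⟩ := Ideal.mem_span_singleton'.mp (hsmall g hg)
  obtain ⟨d₀, hd₀⟩ := hJ₀ g hg
  have h1 : t ^ (c + c) * (t ^ d₀ * e g) = 0 := by
    rw [← Ideal.mem_bot (R := A), ← hzero]
    refine Ideal.mul_mem_mul (Ideal.mem_span_singleton_self _) ?_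
    have := Ideal.mem_map_of_mem e hd₀
    rwa [map_mul, map_pow, show e (C t) = t from eval_C t] at this
  rw [← ha] at h1
  have h2 := hN (c + c + (d₀ + m)) a (by rw [pow_add, pow_add t d₀ m]; linear_combination h1)
  show e g = 0
  obtain ⟨d, rfl⟩ := Nat.exists_eq_add_of_le hmN
  rw [← ha, pow_add, ← mul_assoc, mul_comm a, h2, zero_mul]

/-- Powers of an element have bounded annihilators in a Noetherian ring. -/
theorem exists_torsion_bound [IsNoetherianRing A] (t : A) :
    ∃ N : ℕ, ∀ (m : ℕ) (a : A), t ^ m * a = 0 → t ^ N * a = 0 := by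
  let F : ℕ →o Ideal A :=
    ⟨fun m => LinearMap.ker (LinearMap.mulLeft A (t ^ m)), fun m k hmk a ha => by
      obtain ⟨d, rfl⟩ := Nat.exists_eq_add_of_le hmk
      simp only [LinearMap.mem_ker, LinearMap.mulLeft_apply] at ha ⊢
      rw [pow_add, mul_assoc, mul_comm (t ^ d), ← mul_assoc, ha, zero_mul]⟩
  obtain ⟨N, hN⟩ := monotone_stabilizes_iff_noetherian.mpr (inferInstance : IsNoetherian A A) F
  refine ⟨N, fun m a ha => ?_⟩
  rcases le_total m N with h | h
  · exact F.mono h ha
  · exact ((hN m h).symm ▸ (show a ∈ F m from ha) : a ∈ F N)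

/-- Iterated boundedness of the torsion of a list of elements modulo an ideal. -/
def BddTors : List A → Ideal A → Prop
  | [], _ => True
  | t :: l, K => (∃ N : ℕ, ∀ (m : ℕ) (x : A), t ^ m * x ∈ K → t ^ N * x ∈ K) ∧
      ∀ m : ℕ, BddTors l (K ⊔ Ideal.span {t ^ m})

theorem bddTors_of_isNoetherianRing [IsNoetherianRing A] : ∀ (l : List A) (K : Ideal A), BddTors l K
  | [], _ => trivial
  | t :: l, K => by
    refine ⟨?_, fun m => bddTors_of_isNoetherianRing l _⟩
    obtain ⟨N, hN⟩ := exists_torsion_bound (Ideal.Quotient.mk K t)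
    refine ⟨N, fun m x h => ?_⟩
    rw [← Ideal.Quotient.eq_zero_iff_mem, map_mul, map_pow] at h ⊢
    exact hN m _ h

set_option maxHeartbeats 400000 in
/-- Elkik's approximation theorem along a list of generators with bounded torsion. -/
theorem exists_root_of_approx_of_bddTors (I : Ideal A) [HenselianRing A I] {n : ℕ}
    (J : Ideal (MvPolynomial (Fin n) A)) (l : List A) (hI : Ideal.span {b | b ∈ l} = I) (hb : BddTors l ⊥)
    (hJ : ∀ a ∈ l, IsSplitAt J a) (k : ℕ) :
    ∃ k₀ : ℕ, ∀ x₁ : Fin n → A, (∀ g ∈ J, eval x₁ g ∈ I ^ k₀) →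
      ∃ x : Fin n → A, (∀ i, x i - x₁ i ∈ I ^ k) ∧ ∀ g ∈ J, eval x g = 0 := by
  classical
  suffices key : ∀ (l : List A), ∀ (B : Type u) [CommRing B] (π : A →+* B), Function.Surjective π →
      BddTors l (RingHom.ker π) →
      ∀ (I : Ideal B) [HenselianRing B I], (∀ a ∈ l, π a ∈ I) → I ≤ Ideal.span {b | ∃ a ∈ l, π a = b} →
      (∀ a ∈ l, IsSplitAt J a) → ∀ k, ∃ k₀ : ℕ, ∀ x₁ : Fin n → B,
        (∀ g ∈ J, eval₂ π x₁ g ∈ I ^ k₀) →
          ∃ x : Fin n → B, (∀ i, x i - x₁ i ∈ I ^ k) ∧ ∀ g ∈ J, eval₂ π x g = 0 by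
    obtain ⟨k₀, hk₀⟩ := key l A (RingHom.id A) Function.surjective_id ((RingHom.injective_iff_ker_eq_bot (RingHom.id A)).mp Function.injective_id ▸ hb) I
      (fun a ha => hI ▸ Ideal.subset_span ha)
      (hI ▸ Ideal.span_mono fun a ha => ⟨a, ha, rfl⟩) hJ k
    exact ⟨k₀, fun x₁ h => hk₀ x₁ h⟩
  clear hJ hI hb k l
  intro l
  induction l with
  | nil =>
    intro B _ π _ _ I _ _ hspan _ k
    refine ⟨1, fun x₁ h => ⟨x₁, fun i => by simp, fun g hg => ?_⟩⟩
    have := hspan (by simpa using h g hg)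
    simpa using this
  | cons a l ih =>
    intro B _ π hπ hbt I _ hmem hspan hsplit k
    let t := π a
    have htI : t ∈ I := hmem a List.mem_cons_self
    haveI : HenselianRing B (Ideal.span {t}) :=
      Groth.L05.henselianRing_mono ((Ideal.span_singleton_le_iff_mem _).mpr htI)
    obtain ⟨⟨N, hN⟩, hbl⟩ := hbt
    obtain ⟨q, hq⟩ := exists_root_principal t (J.map (MvPolynomial.map π))
      ((hsplit a List.mem_cons_self).map π) N (fun m y hy => by
        obtain ⟨y, rfl⟩ := hπ y
        rw [← map_pow, ← map_mul] at hy ⊢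
        exact hN m y hy)
    let T : Ideal B := Ideal.span {t ^ (k + q)}
    have hker : RingHom.ker ((Ideal.Quotient.mk T).comp π) = RingHom.ker π ⊔ Ideal.span {a ^ (k + q)} := by
      rw [← RingHom.comap_ker, Ideal.mk_ker, show T = (Ideal.span {a ^ (k + q)}).map π by
        rw [Ideal.map_span, Set.image_singleton, map_pow], Ideal.comap_map_of_surjective _ hπ, sup_comm,
        RingHom.ker_eq_comap_bot]
    let L : Ideal B := Ideal.span {b | ∃ a ∈ l, π a = b}
    have hLI : L ≤ I := Ideal.span_le.mpr fun b ⟨a, ha, hab⟩ => hab ▸ hmem a (List.mem_cons_of_mem _ ha)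
    haveI : HenselianRing B L := Groth.L05.henselianRing_mono hLI
    haveI := Groth.L05.henselianRing_quotient L T
    obtain ⟨k₀, hk₀⟩ := ih (B ⧸ T) ((Ideal.Quotient.mk T).comp π) (Ideal.Quotient.mk_surjective.comp hπ) (hker ▸ hbl (k + q))
      (L.map (Ideal.Quotient.mk T))
      (fun a ha => Ideal.mem_map_of_mem _ (Ideal.subset_span ⟨a, ha, rfl⟩))
      (Ideal.map_le_iff_le_comap.mpr (Ideal.span_le.mpr fun b ⟨a, ha, hab⟩ =>
        Ideal.subset_span ⟨a, ha, hab ▸ rfl⟩))
      (fun a ha => hsplit a (List.mem_cons_of_mem _ ha)) k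
    refine ⟨(k + q) + k₀, fun x₁ h => ?_⟩
    have hI' : I ≤ Ideal.span {t} ⊔ L := hspan.trans (Ideal.span_le.mpr fun b ⟨a', ha', hab⟩ => by
      rcases List.mem_cons.mp ha' with rfl | ha'
      · exact Submodule.mem_sup_left (hab ▸ Ideal.mem_span_singleton_self _)
      · exact Submodule.mem_sup_right (Ideal.subset_span ⟨a', ha', hab⟩))
    have hpow : I ^ ((k + q) + k₀) ≤ T ⊔ L ^ k₀ := by
      refine (Ideal.pow_right_mono hI' _).trans (Ideal.sup_pow_add_le_pow_sup_pow.trans ?_)
      rw [Ideal.span_singleton_pow]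
    obtain ⟨xb, hxb, hroot⟩ := hk₀ (fun i => Ideal.Quotient.mk T (x₁ i)) fun g hg => by
      have h1 := Ideal.mem_map_of_mem (Ideal.Quotient.mk T) (hpow (h g hg))
      rw [Ideal.map_sup, Ideal.map_quotient_self, bot_sup_eq, Ideal.map_pow] at h1
      convert h1 using 1
      exact (MvPolynomial.eval₂_comp_left (Ideal.Quotient.mk T) π x₁ g).symm
    choose x₂ hx₂ using fun i => Ideal.Quotient.mk_surjective (xb i)
    have hTk : Ideal.span {t ^ k} ≤ I ^ k := (Ideal.span_singleton_le_iff_mem _).mpr (Ideal.pow_mem_pow htI k)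
    have hclose : ∀ i, x₂ i - x₁ i ∈ I ^ k := fun i => by
      have h1 := hxb i
      rw [← hx₂, ← map_sub, ← Ideal.map_pow, Ideal.mem_map_iff_of_surjective _ Ideal.Quotient.mk_surjective] at h1
      obtain ⟨w, hw, hw'⟩ := h1
      rw [Ideal.Quotient.eq] at hw'
      have h2 : w - (x₂ i - x₁ i) ∈ I ^ k :=
        hTk (Ideal.span_singleton_le_span_singleton.mpr (pow_dvd_pow t (Nat.le_add_right k q)) hw')
      have h3 := (I ^ k).sub_mem (Ideal.pow_right_mono hLI k hw) h2
      rwa [sub_sub_cancel] at h3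
    obtain ⟨x, hx, hxJ⟩ := hq k x₂ fun g hg => by
      obtain ⟨g₀, hg₀, rfl⟩ := (Ideal.mem_map_iff_of_surjective _ (MvPolynomial.map_surjective π hπ)).mp hg
      rw [MvPolynomial.eval_map, ← Ideal.Quotient.eq_zero_iff_mem, MvPolynomial.eval₂_comp_left (Ideal.Quotient.mk T)]
      rw [show ⇑(Ideal.Quotient.mk T) ∘ x₂ = xb from funext hx₂]
      exact hroot _ hg₀
    refine ⟨x, fun i => ?_, fun g hg => ?_⟩
    · have h3 := (I ^ k).add_mem (hTk (hx i)) (hclose i)
      rwa [sub_add_sub_cancel] at h3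
    · rw [← MvPolynomial.eval_map]
      exact hxJ _ (Ideal.mem_map_of_mem _ hg)

/-- Elkik's approximation theorem, uniform form. -/
theorem exists_root_of_approx [IsNoetherianRing A] (I : Ideal A) [HenselianRing A I] {n : ℕ}
    (J : Ideal (MvPolynomial (Fin n) A)) (s : Finset A) (hI : Ideal.span (s : Set A) = I)
    (hJ : ∀ a ∈ s, IsSplitAt J a) (k : ℕ) :
    ∃ k₀ : ℕ, ∀ x₁ : Fin n → A, (∀ g ∈ J, eval x₁ g ∈ I ^ k₀) →
      ∃ x : Fin n → A, (∀ i, x i - x₁ i ∈ I ^ k) ∧ ∀ g ∈ J, eval x g = 0 :=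
  exists_root_of_approx_of_bddTors I J s.toList
    (hI ▸ congrArg Ideal.span (Set.ext fun _ => Finset.mem_toList)) (bddTors_of_isNoetherianRing _ _)
    (fun a ha => hJ a (Finset.mem_toList.mp ha)) k

end Groth.L14.Elkik
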