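import Groth.Agent.L14.Elkik.Basic
import Mathlib.RingTheory.Localization.Away.AdjoinRoot
import Mathlib.RingTheory.Smooth.Basic
import Mathlib.RingTheory.RingHom.FinitePresentation

/-!
Smoothness away from `t` splits every presentation.
-/

set_option autoImplicit false
set_option linter.style.haveILetI false

noncomputable section

open MvPolynomial

namespace Groth.L14.Elkik

universe u

variable {A : Type u} [CommRing A]

theorem exists_pow_mul_mem_of_mem_map {P R : Type u} [CommRing P] [CommRing R] [Algebra P R] (s : P)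
    [IsLocalization.Away s R] (K : Ideal P) {p : P} (hp : algebraMap P R p ∈ K.map (algebraMap P R)) :
    ∃ d, s ^ d * p ∈ K := by
  obtain ⟨_, ⟨d, rfl⟩, hd⟩ := (IsLocalization.algebraMap_mem_map_algebraMap_iff (Submonoid.powers s) R K p).mp hp
  exact ⟨d, hd⟩

set_option maxHeartbeats 800000 in
theorem isSplitAt_of_formallySmooth {B : Type u} [CommRing B] [Algebra A B] {n : ℕ}
    (π : MvPolynomial (Fin n) A →ₐ[A] B) (hπ : Function.Surjective π) (t : A) (L : Type u) [CommRing L]
    [Algebra A L] [Algebra B L] [IsScalarTower A B L] [IsLocalization.Away (algebraMap A B t) L]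
    [Algebra.FormallySmooth A L] [Algebra.FinitePresentation A L] :
    IsSplitAt (RingHom.ker π) t := by
  classical
  let P := MvPolynomial (Fin n) A
  let R := Localization.Away (C t : P)
  haveI : Algebra.FinitePresentation P R := IsLocalization.Away.finitePresentation (C t : P)
  haveI : Algebra.FinitePresentation A R := Algebra.FinitePresentation.trans A P R
  have hπC : π (C t) = algebraMap A B t := π.commutes t
  let g : P →ₐ[A] L := (IsScalarTower.toAlgHom A B L).comp π
  have hg : IsUnit (g (C t)) := by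
    show IsUnit (algebraMap B L (π (C t)))
    rw [hπC]
    exact IsLocalization.Away.algebraMap_isUnit _
  let πt : R →ₐ[A] L := IsLocalization.Away.liftAlgHom (C t : P) (f := g) hg
  have hπt : ∀ p, πt (algebraMap P R p) = algebraMap B L (π p) := fun p => IsLocalization.Away.lift_eq (C t : P) hg p
  have hsurj : Function.Surjective πt := fun y => by
    obtain ⟨k, b, hb⟩ := IsLocalization.Away.surj (algebraMap A B t) y
    obtain ⟨p, rfl⟩ := hπ b
    refine ⟨algebraMap P R p * IsLocalization.Away.invSelf (C t : P) ^ k, ?_⟩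
    have hu : IsUnit (algebraMap B L (algebraMap A B t)) := IsLocalization.Away.algebraMap_isUnit _
    refine (hu.pow k).mul_left_injective ?_
    show πt _ * _ = y * _
    rw [hb, map_mul, map_pow, hπt, mul_assoc, ← mul_pow,
      show πt (IsLocalization.Away.invSelf (C t : P)) * algebraMap B L (algebraMap A B t) = 1 from by
        rw [← hπC, ← hπt, ← map_mul, mul_comm, IsLocalization.Away.mul_invSelf, map_one],
      one_pow, mul_one]
  let Jt : Ideal R := RingHom.ker πt
  have hJtfg : Jt.FG := Algebra.FinitePresentation.ker_fG_of_surjective πt hsurj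
  have hclear : ∀ x ∈ Jt, ∃ (k : ℕ) (p : P), π p = 0 ∧ algebraMap P R p = algebraMap P R (C t) ^ k * x := by
    intro x hx
    obtain ⟨k, p, hp⟩ := IsLocalization.Away.surj (C t : P) x
    have h1 : algebraMap B L (π p) = 0 := by
      rw [← hπt, ← hp, map_mul, show πt x = 0 from hx, zero_mul]
    obtain ⟨⟨_, d, rfl⟩, hd⟩ := (IsLocalization.map_eq_zero_iff (Submonoid.powers (algebraMap A B t)) L _).mp h1
    refine ⟨d + k, C t ^ d * p, ?_, ?_⟩
    · rw [map_mul, map_pow, hπC]
      exact hd
    · rw [map_mul, map_pow, ← hp, pow_add]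
      ring
  -- the lift
  let q : (R ⧸ Jt ^ 2) →ₐ[A] L := Ideal.Quotient.liftₐ (Jt ^ 2) πt fun x hx => Ideal.pow_le_self two_ne_zero hx
  have hq : Function.Surjective q := fun y => by
    obtain ⟨x, rfl⟩ := hsurj y
    exact ⟨Ideal.Quotient.mk _ x, rfl⟩
  have hqnil : IsNilpotent (RingHom.ker (q : R ⧸ Jt ^ 2 →+* L)) := ⟨2, by
    refine le_bot_iff.mp ((Ideal.pow_right_mono (show _ ≤ Jt.map (Ideal.Quotient.mk (Jt ^ 2)) from fun x hx => ?_) 2).trans ?_)
    · obtain ⟨x, rfl⟩ := Ideal.Quotient.mk_surjective x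
      exact Ideal.mem_map_of_mem _ hx
    · rw [← Ideal.map_pow, Ideal.map_quotient_self]⟩
  let s : L →ₐ[A] R ⧸ Jt ^ 2 := Algebra.FormallySmooth.liftOfSurjective (AlgHom.id A L) q hq hqnil
  have hs : ∀ y, q (s y) = y := fun y => Algebra.FormallySmooth.liftOfSurjective_apply (AlgHom.id A L) q hq hqnil y
  choose yr hyr using fun i : Fin n => Ideal.Quotient.mk_surjective (s (g (X i)))
  let Xr : Fin n → R := fun i => algebraMap P R (X i)
  let φ : Fin n → R := fun i => Xr i - yr i
  have hφ : ∀ i, φ i ∈ Jt := fun i => by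
    show πt (Xr i - yr i) = 0
    have h1 := hs (g (X i))
    rw [← hyr] at h1
    rw [map_sub, hπt, show πt (yr i) = g (X i) from h1]
    exact sub_self _
  have hXr : ∀ p : P, aeval Xr p = algebraMap P R p := fun p => by
    have : (aeval Xr : P →ₐ[A] R) = IsScalarTower.toAlgHom A P R := MvPolynomial.algHom_ext fun i => (aeval_X Xr i).trans rfl
    exact AlgHom.congr_fun this p
  have hyr0 : ∀ p, π p = 0 → aeval yr p ∈ Jt ^ 2 := fun p hp => by
    have h1 : (Ideal.Quotient.mkₐ A (Jt ^ 2)).comp (aeval yr) = s.comp g :=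
      MvPolynomial.algHom_ext fun i => by simpa using hyr i
    rw [← Ideal.Quotient.eq_zero_iff_mem]
    refine (AlgHom.congr_fun h1 p).trans ?_
    show s (algebraMap B L (π p)) = 0
    rw [hp, map_zero, map_zero]
  have hrel : ∀ p, π p = 0 → algebraMap P R p - ∑ i, algebraMap P R (pderiv i p) * φ i ∈ Jt ^ 2 := fun p hp => by
    have h1 := aeval_add_taylor Xr (fun i => -φ i) Jt (fun i => Jt.neg_mem (hφ i)) p
    rw [show Xr + (fun i => -φ i) = yr from funext fun i => by simp [φ]] at h1
    have h2 := (Jt ^ 2).sub_mem (hyr0 p hp) h1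
    simp only [hXr] at h2
    convert h2 using 1
    rw [Finset.sum_congr rfl fun i _ => mul_neg (algebraMap P R (pderiv i p)) (φ i), Finset.sum_neg_distrib]
    ring
  -- clear the denominators
  choose kφ fφ hfφ hfφe using fun i => hclear (φ i) (hφ i)
  obtain ⟨r, x, hx⟩ := Submodule.fg_iff_exists_fin_generating_family.mp hJtfg
  choose kx p hp hpe using fun l => hclear (x l) (hx.le (Submodule.subset_span ⟨l, rfl⟩))
  let K := Finset.univ.sup kφ
  let f : Fin n → P := fun i => C t ^ (K - kφ i) * fφ i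
  have hf : ∀ i, π (f i) = 0 := fun i => by rw [map_mul, hfφ, mul_zero]
  have hfe : ∀ i, algebraMap P R (f i) = algebraMap P R (C t) ^ K * φ i := fun i => by
    rw [map_mul, map_pow, hfφe, ← mul_assoc, ← pow_add, Nat.sub_add_cancel (Finset.le_sup (Finset.mem_univ i))]
  let J₀ : Ideal P := Ideal.span (Set.range (Sum.elim f p))
  have hJ₀ : J₀ ≤ RingHom.ker π := Ideal.span_le.mpr (by rintro _ ⟨i | l, rfl⟩; exacts [hf i, hp l])
  have hmap : Jt ≤ J₀.map (algebraMap P R) := by
    rw [← hx]
    refine Ideal.span_le.mpr ?_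
    rintro _ ⟨l, rfl⟩
    have h1 := Ideal.mem_map_of_mem (algebraMap P R) (show p l ∈ J₀ from Ideal.subset_span ⟨Sum.inr l, rfl⟩)
    rw [hpe] at h1
    exact (Ideal.unit_mul_mem_iff_mem _ ((IsLocalization.Away.algebraMap_isUnit (C t : P)).pow _)).mp h1
  have hgen : ∀ h ∈ J₀, ∃ d, C t ^ d * (C t ^ K * h - ∑ i, pderiv i h * f i) ∈ J₀ ^ 2 := fun h hh => by
    refine exists_pow_mul_mem_of_mem_map (R := R) (C t) (J₀ ^ 2) ?_
    have h1 := Ideal.mul_mem_left _ (algebraMap P R (C t) ^ K) (hrel h (hJ₀ hh))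
    rw [Ideal.map_pow]
    refine Ideal.pow_right_mono hmap 2 ?_
    convert h1 using 1
    simp only [map_sub, map_mul, map_pow, map_sum, hfe, mul_sub, Finset.mul_sum]
    congr 1
    refine Finset.sum_congr rfl fun i _ => ?_
    show _ * algebraMap P R (f i) = _
    rw [hfe]
    ring
  choose d hd using fun j : Fin n ⊕ Fin r => hgen (Sum.elim f p j) (Ideal.subset_span ⟨j, rfl⟩)
  let D := Finset.univ.sup d
  refine ⟨D + K, J₀, fun i => C t ^ D * f i, Submodule.fg_span (Set.finite_range _), hJ₀,
    fun i => J₀.mul_mem_left _ (Ideal.subset_span ⟨Sum.inl i, rfl⟩), fun h hh => ?_, fun h hh => ?_⟩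
  · refine exists_pow_mul_mem_of_mem_map (R := R) (C t) J₀ (hmap ?_)
    show πt _ = 0
    rw [hπt, show π h = 0 from hh, map_zero]
  · induction hh using Submodule.span_induction with
    | mem x hx =>
      obtain ⟨j, rfl⟩ := hx
      have h1 := Ideal.mul_mem_left _ (C t ^ (D - d j)) (hd j)
      rw [← mul_assoc, ← pow_add, Nat.sub_add_cancel (Finset.le_sup (Finset.mem_univ j))] at h1
      convert h1 using 1
      simp only [pow_add, mul_sub, Finset.mul_sum]
      congr 1
      · ring
      · exact Finset.sum_congr rfl fun i _ => by ring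
    | zero => simp
    | add a b _ _ ha hb =>
      convert (J₀ ^ 2).add_mem ha hb using 1
      simp only [map_add, add_mul, Finset.sum_add_distrib]
      ring
    | smul a b hb ih =>
      have h2 : ∑ i, pderiv i a * b * (C t ^ D * f i) ∈ J₀ ^ 2 := Ideal.sum_mem _ fun i _ => by
        rw [pow_two]
        refine Ideal.mul_mem_mul (J₀.mul_mem_left _ hb) (J₀.mul_mem_left _ (Ideal.subset_span ⟨Sum.inl i, rfl⟩))
      convert (J₀ ^ 2).sub_mem ((J₀ ^ 2).mul_mem_left a ih) h2 using 1
      have e : ∀ i, pderiv i (a • b) * (C t ^ D * f i) =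
          a * (pderiv i b * (C t ^ D * f i)) + pderiv i a * b * (C t ^ D * f i) := fun i => by
        rw [smul_eq_mul, pderiv_mul]; ring
      rw [Finset.sum_congr rfl fun i _ => e i, Finset.sum_add_distrib, ← Finset.mul_sum, smul_eq_mul]
      ring

end Groth.L14.Elkik
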